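import Groth.Agent.Lib.HilbD.Chart.Univ

/-!
# Classifying maps into a chart
-/

universe u

open CategoryTheory CategoryTheory.Limits AlgebraicGeometry
open scoped TensorProduct

namespace Groth.Agent.Lib.HilbD.Chart

set_option linter.style.haveILetI false
set_option backward.isDefEq.respectTransparency false

variable {X S : Scheme.{u}} {f : X ⟶ S} {d : ℕ} (c : Idx f d)

/-- The projection of a closed subscheme of `X_T`. -/
noncomputable abbrev prI {T : Over S} (I : (PicF.XT f T).IdealSheafData) : I.subscheme ⟶ T.left :=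
  I.subschemeι ≫ PicF.XTproj f T

/-- The map to `X` of a closed subscheme of `X_T`. -/
noncomputable abbrev toXI {T : Over S} (I : (PicF.XT f T).IdealSheafData) : I.subscheme ⟶ X :=
  I.subschemeι ≫ pullback.fst f T.hom

theorem frameAt_toX_eq_sum (x : Γ(X, c.U.1)) :
    ∃ e : c.pr ⁻¹ᵁ ⊤ ≤ c.toX ⁻¹ᵁ c.U.1,
      c.toX.appLE c.U.1 (c.pr ⁻¹ᵁ ⊤) e x =
        ∑ i, c.pr.app ⊤ ((Scheme.ΓSpecIso (CommRingCat.of c.R)).inv (c.coeff x i)) *
          c.toX.appLE c.U.1 (c.pr ⁻¹ᵁ ⊤) e (c.b i) := by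
  obtain ⟨e, -⟩ := c.frameAt_pr
  refine ⟨e, ?_⟩
  have hu : ∀ y, c.toX.appLE c.U.1 (c.pr ⁻¹ᵁ ⊤) e y =
      (Scheme.ΓSpecIso (CommRingCat.of c.Q)).inv (c.famMap y) := fun y => by
    have h := Content.appLE_SpecMap_fromSpec (T := X) c.U.2
      (B := CommRingCat.of c.Q) (CommRingCat.ofHom c.famMap) e
    exact congr($h y)
  simp only [hu]
  rw [c.famMap_eq_sum, map_sum]
  refine Finset.sum_congr rfl fun i _ => ?_
  rw [Algebra.smul_def, map_mul]
  congr 1
  exact congr($(Scheme.ΓSpecIso_inv_naturality (CommRingCat.ofHom (algebraMap c.R c.Q))) (c.coeff x i))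

theorem algebraMap_appLE {T : Over S} (k : T ⟶ c.H) (W : T.left.Opens)
    (hW : W ≤ T.hom ⁻¹ᵁ c.V.1) (a : Γ(S, c.V.1)) :
    k.left.appLE ⊤ W le_top ((Scheme.ΓSpecIso (CommRingCat.of c.R)).inv
      (algebraMap Γ(S, c.V.1) c.R a)) = T.hom.appLE c.V.1 W hW a := by
  have e1 : ⊤ ≤ c.H.hom ⁻¹ᵁ c.V.1 := fun z _ => by
    show c.V.2.fromSpec (Spec.map (CommRingCat.ofHom (algebraMap Γ(S, c.V.1) c.R)) z) ∈ c.V.1
    rw [← SetLike.mem_coe, ← c.V.2.range_fromSpec]; exact ⟨_, rfl⟩
  have h1 := Content.appLE_SpecMap_fromSpec (T := S) c.V.2 (B := CommRingCat.of c.R)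
    (CommRingCat.ofHom (algebraMap Γ(S, c.V.1) c.R)) e1
  have h2 : c.H.hom.appLE c.V.1 ⊤ e1 ≫ k.left.appLE ⊤ W le_top = T.hom.appLE c.V.1 W hW := by
    rw [Scheme.Hom.appLE_comp_appLE]
    simp only [Over.w k]
  rw [← h2, CommRingCat.comp_apply]
  congr 1
  exact congr($h1.symm a)

variable [IsSeparated f]

theorem exists_map_of_pull {T : Over S} (k : T ⟶ c.H) {I : (PicF.XT f T).IdealSheafData}
    (h : _root_.HilbD.pull f k c.fam.1 = I) :
    ∃ l : I.subscheme ⟶ c.Zc, IsPullback l (prI I) c.pr k.left ∧ l ≫ c.toX = toXI I := by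
  rw [Basic.pull_eq_comap] at h
  subst h
  have hc : c.emb.toImage ≫ c.emb.ker.subschemeι = c.emb := c.emb.toImage_imageι
  haveI : IsIso c.emb.toImage := inferInstance
  let l₀ := Basic.comapMap (PicF.XTmap f k) c.fam.1
  have sq := Basic.isPullback_comap_proj (Basic.isPullback_XTmap f k) c.fam.1
  have hpr : inv c.emb.toImage ≫ c.pr = c.fam.1.subschemeι ≫ PicF.XTproj f c.H := by
    rw [IsIso.inv_comp_eq, ← Category.assoc]
    exact ((congrArg (· ≫ PicF.XTproj f c.H) hc).trans c.emb_proj).symm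
  refine ⟨l₀ ≫ inv c.emb.toImage, ?_, ?_⟩
  · exact sq.of_iso (Iso.refl _) (asIso c.emb.toImage).symm (Iso.refl _) (Iso.refl _)
      (by simp [l₀]) (by simp) (by simpa using hpr.symm) (by simp)
  · have h2 : inv c.emb.toImage ≫ c.toX = c.fam.1.subschemeι ≫ pullback.fst f c.H.hom := by
      rw [IsIso.inv_comp_eq, ← Category.assoc]
      exact ((congrArg (· ≫ pullback.fst f c.H.hom) hc).trans c.emb_fst).symm
    rw [Category.assoc, h2, ← Category.assoc, (Basic.isPullback_comapMap _ _).w, Category.assoc,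
      Basic.XTmap_fst]

theorem frameAt_of_pull {T : Over S} (k : T ⟶ c.H) {I : (PicF.XT f T).IdealSheafData}
    (h : _root_.HilbD.pull f k c.fam.1 = I) {W : T.left.Opens} (hW : IsAffineOpen W) :
    FrameAt (prI I) (toXI I) c.U.1 c.b W := by
  obtain ⟨l, sq, hl⟩ := exists_map_of_pull c k h
  haveI := c.isFinite_pr
  haveI : IsFinite (prI I) := MorphismProperty.of_isPullback sq ‹IsFinite c.pr›
  rw [← hl]
  exact c.frameAt_pr.pullback sq (isAffineOpen_top (Spec (CommRingCat.of c.R))) hW le_top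

theorem hom_ext {T : Over S} {k k' : T ⟶ c.H}
    (h : _root_.HilbD.pull f k c.fam.1 = _root_.HilbD.pull f k' c.fam.1) : k = k' := by
  apply Over.OverMorphism.ext
  refine Scheme.Cover.hom_ext T.left.affineCover _ _ fun j => ?_
  let W : T.left.Opens := (T.left.affineCover.f j).opensRange
  have hW : IsAffineOpen W := isAffineOpen_opensRange _
  suffices key : k.left.appLE ⊤ W le_top = k'.left.appLE ⊤ W le_top by
    have h1 : hW.fromSpec ≫ k.left = hW.fromSpec ≫ k'.left := by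
      rw [← IsAffineOpen.SpecMap_appLE_fromSpec k.left
          (isAffineOpen_top (Spec (CommRingCat.of c.R))) hW le_top,
        ← IsAffineOpen.SpecMap_appLE_fromSpec k'.left
          (isAffineOpen_top (Spec (CommRingCat.of c.R))) hW le_top, key]
    have h2 : Set.range (T.left.affineCover.f j) ⊆ Set.range hW.fromSpec := by
      rw [hW.range_fromSpec]; rfl
    haveI := hW.isOpenImmersion_fromSpec
    rw [← IsOpenImmersion.lift_fac hW.fromSpec (T.left.affineCover.f j) h2, Category.assoc,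
      Category.assoc, h1]
  obtain ⟨l, sq, hl⟩ := exists_map_of_pull c k rfl
  obtain ⟨l', sq', hl'⟩ := exists_map_of_pull c k' h.symm
  haveI := c.isFinite_pr
  have hfr := frameAt_of_pull c k rfl hW
  obtain ⟨hu, hf⟩ := hfr
  let I := _root_.HilbD.pull f k c.fam.1
  letI := ((prI I).app W).hom.toAlgebra
  have hV : W ≤ T.hom ⁻¹ᵁ c.V.1 := fun t _ => by
    show T.hom t ∈ c.V.1
    rw [← Over.w k]
    show c.V.2.fromSpec _ ∈ c.V.1
    rw [← SetLike.mem_coe, ← c.V.2.range_fromSpec]; exact ⟨_, rfl⟩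
  letI := c.alg
  letI := (T.hom.appLE c.V.1 W hV).hom.toAlgebra
  let φ : ∀ (m : T ⟶ c.H), c.R →ₐ[Γ(S, c.V.1)] Γ(T.left, W) := fun m =>
    { toRingHom := ((Scheme.ΓSpecIso (CommRingCat.of c.R)).inv ≫ m.left.appLE ⊤ W le_top).hom
      commutes' := fun a => algebraMap_appLE c m W hV a }
  have hsum : ∀ (m : T ⟶ c.H) (l : I.subscheme ⟶ c.Zc), IsPullback l (prI I) c.pr m.left →
      l ≫ c.toX = toXI I → ∀ x, (toXI I).appLE c.U.1 (prI I ⁻¹ᵁ W) hu x =
        Fintype.linearCombination Γ(T.left, W)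
          (fun i => (toXI I).appLE c.U.1 (prI I ⁻¹ᵁ W) hu (c.b i)) (fun i => φ m (c.coeff x i)) := by
    intro m l sq hl x
    obtain ⟨e, he⟩ := frameAt_toX_eq_sum c x
    have el : prI I ⁻¹ᵁ W ≤ l ⁻¹ᵁ (c.pr ⁻¹ᵁ ⊤) := le_top
    have h3 : ∀ y, l.appLE _ _ el (c.toX.appLE c.U.1 (c.pr ⁻¹ᵁ ⊤) e y) =
        (toXI I).appLE c.U.1 (prI I ⁻¹ᵁ W) hu y := fun y => by
      rw [← CommRingCat.comp_apply, Scheme.Hom.appLE_comp_appLE]
      simp only [hl]
    have h4 := congrArg (l.appLE _ _ el) he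
    rw [h3, map_sum] at h4
    rw [h4, Fintype.linearCombination_apply]
    refine Finset.sum_congr rfl fun i _ => ?_
    rw [map_mul, h3, Algebra.smul_def]
    congr 1
    show (c.pr.app ⊤ ≫ l.appLE (c.pr ⁻¹ᵁ ⊤) _ el) ((Scheme.ΓSpecIso (CommRingCat.of c.R)).inv (c.coeff x i)) =
      (m.left.appLE ⊤ W le_top ≫ (prI I).app W)
        ((Scheme.ΓSpecIso (CommRingCat.of c.R)).inv (c.coeff x i))
    rw [Scheme.Hom.app_eq_appLE, Scheme.Hom.app_eq_appLE, Scheme.Hom.appLE_comp_appLE,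
      Scheme.Hom.appLE_comp_appLE]
    simp only [sq.w]
  have hφ : φ k = φ k' := Chart.algHom_ext _ _ fun x i =>
    congrFun (hf.1 ((hsum k l sq hl x).symm.trans (hsum k' l' sq' hl' x))) i
  refine CommRingCat.hom_ext (RingHom.ext fun s => ?_)
  obtain ⟨r, rfl⟩ := (ConcreteCategory.bijective_of_isIso
    (Scheme.ΓSpecIso (CommRingCat.of c.R)).inv).2 s
  exact congr($hφ r)

set_option maxHeartbeats 800000 in
theorem exists_classify {T : Over S} [IsAffine T.left] (Z : _root_.HilbD.Obj f d T)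
    (hV : ⊤ ≤ T.hom ⁻¹ᵁ c.V.1) (h : FrameAt (prI Z.1) (toXI Z.1) c.U.1 c.b ⊤) :
    ∃ k : T ⟶ c.H, _root_.HilbD.pull f k c.fam.1 = Z.1 := by
  obtain ⟨hu, hf⟩ := h
  let π := prI Z.1
  let u := toXI Z.1
  haveI : IsFinite π := Z.2.1.1
  haveI : IsAffine Z.1.subscheme := isAffine_of_isAffineHom π
  letI := c.alg
  letI := (T.hom.appLE c.V.1 ⊤ hV).hom.toAlgebra
  letI := (π.app ⊤).hom.toAlgebra
  let A' : Type u := Γ(T.left, ⊤)
  let M : Type u := Γ(Z.1.subscheme, π ⁻¹ᵁ ⊤)
  letI : Algebra Γ(S, c.V.1) M :=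
    ((π.app ⊤).hom.comp (T.hom.appLE c.V.1 ⊤ hV).hom).toAlgebra
  haveI : IsScalarTower Γ(S, c.V.1) A' M := .of_algebraMap_eq' rfl
  let β : Γ(X, c.U.1) →ₐ[Γ(S, c.V.1)] M :=
    { toRingHom := (u.appLE c.U.1 (π ⁻¹ᵁ ⊤) hu).hom
      commutes' := fun a => by
        show (f.appLE c.V.1 c.U.1 c.le ≫ u.appLE c.U.1 (π ⁻¹ᵁ ⊤) hu) a =
          (T.hom.appLE c.V.1 ⊤ hV ≫ π.app ⊤) a
        rw [Scheme.Hom.app_eq_appLE, Scheme.Hom.appLE_comp_appLE, Scheme.Hom.appLE_comp_appLE]
        simp only [u, π, toXI, prI, Category.assoc, pullback.condition] }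
  let e : (Fin d → A') ≃ₗ[A'] M :=
    LinearEquiv.ofBijective (Fintype.linearCombination A' (fun i => β (c.b i))) hf
  let co : Γ(X, c.U.1) →ₗ[Γ(S, c.V.1)] (Fin d → A') :=
    (e.symm.toLinearMap.restrictScalars Γ(S, c.V.1)).comp β.toLinearMap
  have hco : ∀ x, ∑ i, co x i • β (c.b i) = β x := fun x => by
    have := e.apply_symm_apply (β x)
    rwa [LinearEquiv.ofBijective_apply, Fintype.linearCombination_apply] at this
  have huniq : ∀ (g : Fin d → A') (x), ∑ i, g i • β (c.b i) = β x → co x = g := fun g x hg => by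
    apply e.injective
    show e (e.symm (β x)) = e g
    rw [e.apply_symm_apply, LinearEquiv.ofBijective_apply, Fintype.linearCombination_apply, hg]
  obtain ⟨φ, hφ⟩ := Chart.exists_lift Γ(S, c.V.1) c.b (A' := A') (fun x i => co x i)
    (fun x y i => by simp only [map_add, Pi.add_apply])
    (fun a x i => by simp only [map_smul, Pi.smul_apply])
    (fun j i => by
      show co (c.b j) i = _
      rw [huniq (fun i => if j = i then 1 else 0) (c.b j) (by simp [ite_smul])])
    (fun x y i => by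
      show co (x * y) i = _
      rw [huniq (fun i => ∑ j, co x j * co (c.b j * y) i) (x * y) (by
        simp only [Finset.sum_smul, mul_smul]
        rw [Finset.sum_comm]
        simp only [← Finset.smul_sum, hco, map_mul]
        simp only [← smul_mul_assoc, ← Finset.sum_mul, hco]) ])
  letI : Algebra c.R A' := φ.toRingHom.toAlgebra
  haveI : IsScalarTower Γ(S, c.V.1) c.R A' := .of_algebraMap_eq fun a => (φ.commutes a).symm
  letI : Algebra c.R M := ((π.app ⊤).hom.comp φ.toRingHom).toAlgebra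
  haveI : IsScalarTower c.R A' M := .of_algebraMap_eq' rfl
  haveI : IsScalarTower Γ(S, c.V.1) c.R M := .of_algebraMap_eq fun a => by
    show π.app ⊤ (T.hom.appLE c.V.1 ⊤ hV a) = π.app ⊤ (φ (algebraMap Γ(S, c.V.1) c.R a))
    rw [φ.commutes]; rfl
  let α : c.R ⊗[Γ(S, c.V.1)] Γ(X, c.U.1) →ₐ[c.R] M :=
    Algebra.TensorProduct.lift (Algebra.ofId c.R M) β (fun _ _ => .all _ _)
  have hα : ∀ z, α z = ∑ i, algebraMap c.R A' (Chart.toCoord Γ(S, c.V.1) c.b z i) • β (c.b i) := by
    intro z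
    induction z with
    | zero => simp
    | tmul r x =>
      rw [Algebra.TensorProduct.lift_tmul]
      simp only [Chart.toCoord_tmul, map_mul, mul_smul, ← Finset.smul_sum]
      rw [show ∑ i, algebraMap c.R A' (Chart.coeff Γ(S, c.V.1) c.b x i) • β (c.b i) = β x by
        simp only [RingHom.algebraMap_toAlgebra]; exact (by simp only [AlgHom.toRingHom_eq_coe, RingHom.coe_coe, hφ]; exact hco x)]
      rw [Algebra.smul_def]
      rfl
    | add z w hz hw => simp only [map_add, Pi.add_apply, add_smul, Finset.sum_add_distrib, hz, hw]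
  let ψ : c.Q →ₐ[c.R] M := Ideal.Quotient.liftₐ (Chart.famIdeal Γ(S, c.V.1) c.b) α fun z hz => by
    rw [hα]
    simp [(Chart.mem_famIdeal _ _).mp hz]
  have hψ : ∀ x, ψ (c.famMap x) = β x := fun x => by
    show α ((1 : c.R) ⊗ₜ x) = β x
    rw [Algebra.TensorProduct.lift_tmul]; simp
  letI : Algebra c.Q M := ψ.toRingHom.toAlgebra
  haveI : IsScalarTower c.R c.Q M := .of_algebraMap_eq fun r => (ψ.commutes r).symm
  have hbc : IsBaseChange A' ψ.toLinearMap := by
    let bM : Module.Basis (Fin d) A' M := Module.Basis.ofEquivFun e.symm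
    refine IsBaseChange.of_equiv ((c.basis.baseChange A').equiv bM (Equiv.refl _)) ?_
    intro q
    conv_lhs => rw [← c.basis.sum_repr q]
    conv_rhs => rw [← c.basis.sum_repr q]
    simp only [TensorProduct.tmul_sum, map_sum, AlgHom.toLinearMap_apply, map_smul,
      TensorProduct.tmul_smul]
    refine Finset.sum_congr rfl fun i _ => ?_
    rw [← algebraMap_smul A' (c.basis.repr q i), map_smul, algebraMap_smul]
    congr 1
    rw [← Module.Basis.baseChange_apply, Module.Basis.equiv_apply, Equiv.refl_apply,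
      Idx.basis_apply, hψ, Module.Basis.coe_ofEquivFun]
    show e (Pi.single i 1) = _
    rw [LinearEquiv.ofBijective_apply, Fintype.linearCombination_apply_single, one_smul]
  have hpo : Algebra.IsPushout c.R A' c.Q M := ⟨hbc⟩
  have hpo' : CategoryTheory.IsPushout (CommRingCat.ofHom φ.toRingHom)
      (CommRingCat.ofHom (algebraMap c.R c.Q)) (π.app ⊤) (CommRingCat.ofHom ψ.toRingHom) :=
    CommRingCat.isPushout_iff_isPushout.mpr hpo
  have hsp := isPullback_SpecMap_of_isPushout _ _ _ _ hpo'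
  let kl : T.left ⟶ c.H.left := T.left.toSpecΓ ≫ Spec.map (CommRingCat.ofHom φ.toRingHom)
  let l : Z.1.subscheme ⟶ c.Zc := Z.1.subscheme.toSpecΓ ≫ Spec.map (CommRingCat.ofHom ψ.toRingHom)
  have sq0 : IsPullback Z.1.subscheme.toSpecΓ π (Spec.map π.appTop) T.left.toSpecΓ :=
    IsPullback.of_horiz_isIso ⟨(Scheme.toSpecΓ_naturality π).symm⟩
  have sq : IsPullback l π c.pr kl := sq0.paste_horiz hsp.flip
  have hkl : kl ≫ c.H.hom = T.hom := by
    have h1 : CommRingCat.ofHom (algebraMap Γ(S, c.V.1) c.R) ≫ CommRingCat.ofHom φ.toRingHom =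
        T.hom.appLE c.V.1 ⊤ hV := by
      ext a
      exact φ.commutes a
    show (T.left.toSpecΓ ≫ Spec.map (CommRingCat.ofHom φ.toRingHom)) ≫
      Spec.map (CommRingCat.ofHom (algebraMap Γ(S, c.V.1) c.R)) ≫ c.V.2.fromSpec = T.hom
    rw [Category.assoc, ← Spec.map_comp_assoc, h1,
      IsAffineOpen.SpecMap_appLE_fromSpec T.hom c.V.2 (isAffineOpen_top T.left) hV,
      IsAffineOpen.fromSpec_top, ← Category.assoc]
    exact (congrArg (· ≫ T.hom) T.left.isoSpec.hom_inv_id).trans (Category.id_comp _)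
  have hl : l ≫ c.toX = u := by
    have h1 : CommRingCat.ofHom c.famMap ≫ CommRingCat.ofHom ψ.toRingHom =
        u.appLE c.U.1 (π ⁻¹ᵁ ⊤) hu := by
      ext x
      exact hψ x
    show (Z.1.subscheme.toSpecΓ ≫ Spec.map (CommRingCat.ofHom ψ.toRingHom)) ≫
      Spec.map (CommRingCat.ofHom c.famMap) ≫ c.U.2.fromSpec = u
    rw [Category.assoc, ← Spec.map_comp_assoc, h1]
    erw [IsAffineOpen.SpecMap_appLE_fromSpec u c.U.2 (isAffineOpen_top Z.1.subscheme) hu]
    rw [IsAffineOpen.fromSpec_top, ← Category.assoc]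
    exact (congrArg (· ≫ u) Z.1.subscheme.isoSpec.hom_inv_id).trans (Category.id_comp _)
  let k : T ⟶ c.H := Over.homMk kl hkl
  refine ⟨k, ?_⟩
  have sq' : IsPullback l Z.1.subschemeι c.emb (PicF.XTmap f k) := by
    refine IsPullback.of_bot ?_ ?_ (Basic.isPullback_XTmap f k)
    · rw [Idx.emb_proj]; exact sq
    · apply pullback.hom_ext
      · refine (Category.assoc _ _ _).trans (((congrArg (l ≫ ·) c.emb_fst).trans hl).trans ?_)
        exact ((Category.assoc _ _ _).trans (congrArg (Z.1.subschemeι ≫ ·) (Basic.XTmap_fst f k))).symm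
      · refine (Category.assoc _ _ _).trans (((congrArg (l ≫ ·) c.emb_proj).trans sq.w).trans ?_)
        refine Eq.symm ((Category.assoc _ _ _).trans ?_)
        exact (congrArg (Z.1.subschemeι ≫ ·) (Basic.XTmap_snd f k)).trans (Category.assoc _ _ _).symm
  rw [Basic.pull_eq_comap]
  show c.emb.ker.comap (PicF.XTmap f k) = Z.1
  rw [← Scheme.IdealSheafData.ker_fst_of_isClosedImmersion, ← sq'.flip.isoPullback_inv_fst,
    Scheme.Hom.ker_comp_of_isIso, Scheme.IdealSheafData.ker_subschemeι]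

end Groth.Agent.Lib.HilbD.Chart
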