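import Groth.Agent.Lib.HilbD.Chart.Locus
import Mathlib.RingTheory.Artinian.Module
import Mathlib.RingTheory.LocalRing.ResidueField.Fiber
import Mathlib.RingTheory.Ideal.Quotient.Operations
import Mathlib.AlgebraicGeometry.Morphisms.ClosedImmersion

/-!
# The charts cover the Hilbert functor of points
-/

universe u

open CategoryTheory CategoryTheory.Limits AlgebraicGeometry
open scoped TensorProduct

namespace Groth.Agent.Lib.HilbD.Chart

set_option linter.style.haveILetI false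
set_option backward.isDefEq.respectTransparency false

theorem card_le_finrank {k F : Type u} [Field k] [CommRing F] [Algebra k F] [Module.Finite k F]
    (s : Finset (PrimeSpectrum F)) : s.card ≤ Module.finrank k F := by
  classical
  haveI : IsArtinianRing F := IsArtinianRing.of_finite k F
  have hmax : ∀ q : PrimeSpectrum F, q.asIdeal.IsMaximal := fun q =>
    IsArtinianRing.isMaximal_of_isPrime q.asIdeal
  have hcop : Pairwise fun a b : s => IsCoprime a.1.asIdeal b.1.asIdeal := fun a b hab => by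
    show IsCoprime a.1.asIdeal b.1.asIdeal
    rw [Ideal.isCoprime_iff_sup_eq]
    exact (hmax a.1).coprime_of_ne (hmax b.1) fun h => hab (Subtype.ext (PrimeSpectrum.ext h))
  let φ : F →ₗ[k] (∀ a : s, F ⧸ a.1.asIdeal) :=
    LinearMap.pi fun a => (Ideal.Quotient.mkₐ k a.1.asIdeal).toLinearMap
  have hφ : Function.Surjective φ := fun y => by
    obtain ⟨r, hr⟩ := Ideal.pi_quotient_surjective hcop y
    exact ⟨r, funext hr⟩
  have h1 := LinearMap.finrank_le_finrank_of_surjective (f := φ) hφ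
  rw [Module.finrank_pi_fintype] at h1
  refine le_trans ?_ h1
  calc s.card = ∑ _a : s, 1 := by simp
    _ ≤ _ := Finset.sum_le_sum fun a _ => by
      haveI := Ideal.Quotient.nontrivial_iff.mpr (hmax a.1).ne_top
      exact Module.finrank_pos

variable {X S : Scheme.{u}} {f : X ⟶ S} {d : ℕ}

/-- A fibre of a finite locally free morphism of degree `d` has at most `d` points. -/
theorem exists_fibre_points {Z T : Scheme.{u}} (π : Z ⟶ T) (hπ : Mor2.IsFinLocFreeOfDeg d π)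
    (t : T) : ∃ x : Fin d → Z, (∀ i, π (x i) = t) ∧ ∀ z, π z = t → ∃ i, x i = z := by
  classical
  haveI := hπ.1.1
  obtain ⟨W, hW, htW, -⟩ := exists_isAffineOpen_mem_and_subset (show t ∈ (⊤ : T.Opens) from trivial)
  obtain ⟨a, hta, ⟨bM⟩⟩ := exists_nhd_basis π hπ hW t htW
  let D := T.basicOpen a
  have hD : IsAffineOpen D := hW.basicOpen a
  have hZD : IsAffineOpen (π ⁻¹ᵁ D) := hD.preimage π
  letI := (π.app D).hom.toAlgebra
  let A := Γ(T, D)
  let M := Γ(Z, π ⁻¹ᵁ D)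
  let p := hD.primeIdealOf ⟨t, hta⟩
  let k := p.asIdeal.ResidueField
  haveI : Module.Finite k (p.asIdeal.Fiber M) := Module.Finite.of_basis (bM.baseChange k)
  haveI : IsArtinianRing (p.asIdeal.Fiber M) := IsArtinianRing.of_finite k _
  letI : Fintype (PrimeSpectrum (p.asIdeal.Fiber M)) := Fintype.ofFinite _
  have hcard : Fintype.card (PrimeSpectrum (p.asIdeal.Fiber M)) ≤ d := by
    refine (card_le_finrank (k := k) Finset.univ).trans ?_
    rw [Module.finrank_eq_card_basis (bM.baseChange k), Fintype.card_fin]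
  let F := {z : Z // π z = t}
  have hmem : ∀ z : F, z.1 ∈ π ⁻¹ᵁ D := fun z => by
    show π z.1 ∈ D
    rw [z.2]; exact hta
  let ι : F → PrimeSpectrum.comap (algebraMap A M) ⁻¹' {p} := fun z =>
    ⟨hZD.primeIdealOf ⟨z.1, hmem z⟩, by
      show PrimeSpectrum.comap (algebraMap A M) _ = p
      have h1 := IsAffineOpen.comap_primeIdealOf_appLE (f := π) D hD (π ⁻¹ᵁ D) hZD le_rfl (hmem z)
      rw [← Scheme.Hom.app_eq_appLE] at h1
      refine h1.trans ?_
      simp only [z.2]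
      rfl⟩
  have hι : Function.Injective ι := fun z z' h => by
    have h1 := congrArg (fun w => hZD.fromSpec w.1) h
    simp only [ι] at h1
    rw [hZD.fromSpec_primeIdealOf, hZD.fromSpec_primeIdealOf] at h1
    exact Subtype.ext h1
  let e := (PrimeSpectrum.preimageHomeomorphFiber A M p).toEquiv
  have hinj : Function.Injective (e ∘ ι) := e.injective.comp hι
  letI : Fintype F := Fintype.ofInjective _ hinj
  have hF : Fintype.card F ≤ d := (Fintype.card_le_of_injective _ hinj).trans hcard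
  by_cases hne : Nonempty F
  · obtain ⟨emb⟩ := Function.Embedding.nonempty_of_card_le (β := Fin d) (by simpa using hF)
    refine ⟨fun i => (Function.invFun emb i).1, fun i => (Function.invFun emb i).2, fun z hz => ?_⟩
    exact ⟨emb ⟨z, hz⟩, congrArg Subtype.val (Function.leftInverse_invFun emb.injective ⟨z, hz⟩)⟩
  · have hd : d = 0 := by
      by_contra hd
      haveI : Flat π := hπ.1.2.1
      haveI : Surjective π := (Scheme.Hom.one_le_finrank_iff_surjective π).mp fun y => by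
        rw [Pi.one_apply, hπ.2]; exact Nat.one_le_iff_ne_zero.mpr hd
      obtain ⟨z, hz⟩ := π.surjective t
      exact hne ⟨⟨z, hz⟩⟩
    subst hd
    exact ⟨finZeroElim, finZeroElim, fun z hz => absurd ⟨⟨z, hz⟩⟩ hne⟩

theorem exists_basicOpen_of_finite {X : Scheme.{u}} {U : X.Opens} (hU : IsAffineOpen U)
    (O : X.Opens) {n : ℕ} (y : Fin n → X) (hyU : ∀ i, y i ∈ U) (hyO : ∀ i, y i ∈ O) :
    ∃ g : Γ(X, U), X.basicOpen g ≤ O ∧ ∀ i, y i ∈ X.basicOpen g := by
  classical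
  obtain ⟨J, hJ⟩ := (PrimeSpectrum.isClosed_iff_zeroLocus_ideal _).mp
    (hU.fromSpec ⁻¹ᵁ O).2.isClosed_compl
  have h1 : ¬ ((J : Set Γ(X, U)) ⊆ ⋃ i ∈ ((Finset.univ : Finset (Fin n)) : Set (Fin n)),
      (hU.primeIdealOf ⟨y i, hyU i⟩).asIdeal) := by
    intro h
    by_cases hn : n = 0
    · subst hn
      simpa using h (zero_mem J)
    · obtain ⟨i, -, hi⟩ := (Ideal.subset_union_prime (⟨0, Nat.pos_of_ne_zero hn⟩ : Fin n)
        ⟨0, Nat.pos_of_ne_zero hn⟩ (fun _ _ _ _ => (hU.primeIdealOf _).2)).mp h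
      have h2 : hU.primeIdealOf ⟨y i, hyU i⟩ ∈ PrimeSpectrum.zeroLocus (J : Set Γ(X, U)) := hi
      rw [← hJ] at h2
      apply h2
      show hU.fromSpec (hU.primeIdealOf ⟨y i, hyU i⟩) ∈ O
      rw [hU.fromSpec_primeIdealOf]
      exact hyO i
  obtain ⟨g, hgJ, hg⟩ := Set.not_subset.mp h1
  refine ⟨g, fun x hx => ?_, fun i => ?_⟩
  · have hxU : x ∈ U := X.basicOpen_le g hx
    by_contra hxO
    have h2 : hU.primeIdealOf ⟨x, hxU⟩ ∈ PrimeSpectrum.zeroLocus (J : Set Γ(X, U)) := by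
      rw [← hJ]
      show ¬ hU.fromSpec (hU.primeIdealOf ⟨x, hxU⟩) ∈ O
      rw [hU.fromSpec_primeIdealOf]
      exact hxO
    exact (Groth.Agent.Lib.Ideal.EffCartier.mem_basicOpen_iff_notMem_prime hU hxU g).mp hx (h2 hgJ)
  · refine (Groth.Agent.Lib.Ideal.EffCartier.mem_basicOpen_iff_notMem_prime hU (hyU i) g).mpr ?_
    exact fun hgi => hg (Set.mem_iUnion₂.mpr ⟨i, Finset.mem_coe.mpr (Finset.mem_univ i), hgi⟩)

theorem span_eq_top {T : Over S} (Z : _root_.HilbD.Obj f d T) {V : S.Opens} (hV : IsAffineOpen V)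
    {U : X.Opens} (hU : IsAffineOpen U) (hUV : U ≤ f ⁻¹ᵁ V) {D : T.left.Opens}
    (hD : IsAffineOpen D) (hDV : D ≤ T.hom ⁻¹ᵁ V) (hu : prI Z.1 ⁻¹ᵁ D ≤ toXI Z.1 ⁻¹ᵁ U) :
    letI := ((prI Z.1).app D).hom.toAlgebra
    Submodule.span Γ(T.left, D) (Set.range fun x : Γ(X, U) =>
      (toXI Z.1).appLE U (prI Z.1 ⁻¹ᵁ D) hu x) = ⊤ := by
  let π := prI Z.1
  let u := toXI Z.1
  haveI : IsFinite π := Z.2.1.1
  have hM : IsAffineOpen (π ⁻¹ᵁ D) := hD.preimage π
  letI := (π.app D).hom.toAlgebra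
  letI := (f.appLE V U hUV).hom.toAlgebra
  letI := (T.hom.appLE V D hDV).hom.toAlgebra
  letI : Algebra Γ(S, V) Γ(Z.1.subscheme, π ⁻¹ᵁ D) :=
    ((π.app D).hom.comp (T.hom.appLE V D hDV).hom).toAlgebra
  haveI : IsScalarTower Γ(S, V) Γ(T.left, D) Γ(Z.1.subscheme, π ⁻¹ᵁ D) := .of_algebraMap_eq' rfl
  let β : Γ(X, U) →ₐ[Γ(S, V)] Γ(Z.1.subscheme, π ⁻¹ᵁ D) :=
    { toRingHom := (u.appLE U (π ⁻¹ᵁ D) hu).hom
      commutes' := fun a => by
        show (f.appLE V U hUV ≫ u.appLE U (π ⁻¹ᵁ D) hu) a = (T.hom.appLE V D hDV ≫ π.app D) a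
        rw [Scheme.Hom.app_eq_appLE, Scheme.Hom.appLE_comp_appLE, Scheme.Hom.appLE_comp_appLE]
        simp only [u, π, toXI, prI, Category.assoc, pullback.condition] }
  let α : Γ(T.left, D) ⊗[Γ(S, V)] Γ(X, U) →ₐ[Γ(T.left, D)] Γ(Z.1.subscheme, π ⁻¹ᵁ D) :=
    Algebra.TensorProduct.lift (Algebra.ofId _ _) β (fun _ _ => .all _ _)
  let inl : Γ(T.left, D) ⟶ CommRingCat.of (Γ(T.left, D) ⊗[Γ(S, V)] Γ(X, U)) :=
    CommRingCat.ofHom Algebra.TensorProduct.includeLeftRingHom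
  let inr : Γ(X, U) ⟶ CommRingCat.of (Γ(T.left, D) ⊗[Γ(S, V)] Γ(X, U)) :=
    CommRingCat.ofHom Algebra.TensorProduct.includeRight.toRingHom
  let jX := Spec.map inr ≫ hU.fromSpec
  let jT := Spec.map inl ≫ hD.fromSpec
  have hj : jX ≫ f = jT ≫ T.hom := by
    show (Spec.map inr ≫ hU.fromSpec) ≫ f = (Spec.map inl ≫ hD.fromSpec) ≫ T.hom
    rw [Category.assoc, Category.assoc, ← IsAffineOpen.SpecMap_appLE_fromSpec f hV hU hUV,
      ← IsAffineOpen.SpecMap_appLE_fromSpec T.hom hV hD hDV, ← Spec.map_comp_assoc,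
      ← Spec.map_comp_assoc]
    congr 2
    ext a
    exact ((Algebra.TensorProduct.includeRight (R := Γ(S, V)) (A := Γ(T.left, D))
      (B := Γ(X, U))).commutes a).trans rfl
  let j : Spec (CommRingCat.of (Γ(T.left, D) ⊗[Γ(S, V)] Γ(X, U))) ⟶ PicF.XT f T :=
    pullback.lift jX jT hj
  let l := Spec.map (CommRingCat.ofHom α.toRingHom)
  have h1 : inr ≫ CommRingCat.ofHom α.toRingHom = u.appLE U (π ⁻¹ᵁ D) hu := by
    ext x
    show α ((1 : Γ(T.left, D)) ⊗ₜ x) = β x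
    rw [Algebra.TensorProduct.lift_tmul, map_one, one_mul]
  have h2 : inl ≫ CommRingCat.ofHom α.toRingHom = π.app D := by
    ext r
    exact α.commutes r
  have hlj : l ≫ j = hM.fromSpec ≫ Z.1.subschemeι := by
    apply pullback.hom_ext
    · rw [Category.assoc, pullback.lift_fst, Category.assoc]
      show Spec.map _ ≫ Spec.map inr ≫ hU.fromSpec = hM.fromSpec ≫ u
      rw [← Spec.map_comp_assoc, h1, IsAffineOpen.SpecMap_appLE_fromSpec u hU hM hu]
    · rw [Category.assoc, pullback.lift_snd, Category.assoc]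
      show Spec.map _ ≫ Spec.map inl ≫ hD.fromSpec = hM.fromSpec ≫ π
      rw [← Spec.map_comp_assoc, h2, Scheme.Hom.app_eq_appLE,
        IsAffineOpen.SpecMap_appLE_fromSpec π hD hM le_rfl]
  haveI := hM.isOpenImmersion_fromSpec
  haveI : Mono (l ≫ j) := by rw [hlj]; infer_instance
  haveI : Mono l := mono_of_mono l j
  haveI : IsFinite (l ≫ Spec.map inl) := by
    rw [← Spec.map_comp, h2]
    exact (IsFinite.SpecMap_iff _).mpr (π.finite_app D hD)
  haveI : IsFinite l := IsFinite.of_comp l (Spec.map inl)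
  haveI : IsClosedImmersion l :=
    (IsClosedImmersion.iff_isFinite_and_mono _).mpr ⟨inferInstance, inferInstance⟩
  have hsurj : Function.Surjective α := by
    have h3 := l.app_surjective ⊤ (isAffineOpen_top _)
    intro m
    obtain ⟨z, hz⟩ := h3 ((Scheme.ΓSpecIso _).inv m)
    obtain ⟨z', rfl⟩ := (ConcreteCategory.bijective_of_isIso (Scheme.ΓSpecIso _).inv).2 z
    refine ⟨z', (ConcreteCategory.bijective_of_isIso (Scheme.ΓSpecIso _).inv).1 ?_⟩
    exact (congr($(Scheme.ΓSpecIso_inv_naturality (CommRingCat.ofHom α.toRingHom)) z')).trans hz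
  rw [eq_top_iff]
  intro m _
  obtain ⟨z, rfl⟩ := hsurj m
  induction z with
  | zero => simp
  | tmul r x =>
    rw [Algebra.TensorProduct.lift_tmul]
    show algebraMap _ _ r * β x ∈ _
    rw [← Algebra.smul_def]
    exact Submodule.smul_mem _ _ (Submodule.subset_span ⟨x, rfl⟩)
  | add z w hz hw => rw [map_add]; exact add_mem (hz Submodule.mem_top) (hw Submodule.mem_top)

/-- Every point of the base lies in the locus of some chart. -/
theorem exists_mem_locus
    (h : ∀ (s : S) (x : Fin d → X), (∀ i, f.base (x i) = s) →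
      ∃ U : X.Opens, IsAffineOpen U ∧ ∀ i, x i ∈ U)
    {T : Over S} (Z : _root_.HilbD.Obj f d T) (t : T.left) :
    ∃ c : Idx f d, t ∈ locus c Z.1 := by
  let π := prI Z.1
  let u := toXI Z.1
  haveI : IsFinite π := Z.2.1.1
  obtain ⟨x, hx, hxs⟩ := exists_fibre_points π Z.2 t
  have hf : ∀ i, f (u (x i)) = T.hom t := fun i => by
    have h1 : u ≫ f = π ≫ T.hom := by simp [u, π, pullback.condition]
    rw [← hx i]
    exact congr($h1 (x i))
  obtain ⟨U, hU, hxU⟩ := h (T.hom t) (fun i => u (x i)) hf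
  obtain ⟨V, hV, hsV, -⟩ :=
    exists_isAffineOpen_mem_and_subset (show T.hom t ∈ (⊤ : S.Opens) from trivial)
  obtain ⟨g, hgV, hxg⟩ := exists_basicOpen_of_finite hU (f ⁻¹ᵁ V) (fun i => u (x i)) hxU
    (fun i => by show f (u (x i)) ∈ V; rw [hf i]; exact hsV)
  let U' := X.basicOpen g
  have hU' : IsAffineOpen U' := hU.basicOpen g
  let C : Set T.left := π '' ((u ⁻¹ᵁ U' : Z.1.subscheme.Opens) : Set Z.1.subscheme)ᶜ
  have hC : IsClosed C := π.isClosedMap _ (u ⁻¹ᵁ U').2.isClosed_compl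
  have htC : t ∉ C := by
    rintro ⟨z, hz, hzt⟩
    obtain ⟨i, rfl⟩ := hxs z hzt
    exact hz (hxg i)
  obtain ⟨W, hW, htW, hWle⟩ := exists_isAffineOpen_mem_and_subset
    (show t ∈ T.hom ⁻¹ᵁ V ⊓ ⟨Cᶜ, hC.isOpen_compl⟩ from ⟨hsV, htC⟩)
  obtain ⟨a, hta, ⟨bM⟩⟩ := exists_nhd_basis π Z.2 hW t htW
  let D := T.left.basicOpen a
  have hD : IsAffineOpen D := hW.basicOpen a
  have hDV : D ≤ T.hom ⁻¹ᵁ V := fun y hy => (hWle (T.left.basicOpen_le a hy)).1
  have hu : π ⁻¹ᵁ D ≤ u ⁻¹ᵁ U' := fun z hz => by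
    by_contra hz'
    exact (hWle (T.left.basicOpen_le a hz)).2 ⟨z, hz', rfl⟩
  letI := (π.app D).hom.toAlgebra
  obtain ⟨b, hb⟩ := exists_det_notMem bM (fun y : Γ(X, U') => u.appLE U' (π ⁻¹ᵁ D) hu y)
    (span_eq_top Z hV hU' hgV hD hDV hu) (hD.primeIdealOf ⟨t, hta⟩).asIdeal
  refine ⟨⟨⟨V, hV⟩, ⟨U', hU'⟩, hgV, b⟩, mem_locus_of_det _ Z hD hDV hu bM ?_⟩
  exact (Groth.Agent.Lib.Ideal.EffCartier.mem_basicOpen_iff_notMem_prime hD hta _).mpr hb

end Groth.Agent.Lib.HilbD.Chart
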