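import Mathlib.LinearAlgebra.Determinant
import Mathlib.LinearAlgebra.Basis.Basic
import Mathlib.RingTheory.TensorProduct.Free
import Mathlib.RingTheory.TensorProduct.IsBaseChangeFree
import Mathlib.RingTheory.Finiteness.Nakayama
import Mathlib.LinearAlgebra.Dimension.Constructions
import Mathlib.LinearAlgebra.FiniteDimensional.Lemmas
import Mathlib.RingTheory.LocalRing.ResidueField.Ideal

/-!
# Frames: families of elements forming a basis, under base change
-/

universe u

open scoped TensorProduct

namespace Groth.Agent.Lib.HilbD.Chart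

set_option linter.style.haveILetI false

variable {A M : Type u} [CommRing A] [AddCommGroup M] [Module A M] {d : ℕ}

/-- `v` is a basis. -/
def IsFrame (A : Type u) [CommRing A] {M : Type u} [AddCommGroup M] [Module A M] (v : Fin d → M) :
    Prop := Function.Bijective (Fintype.linearCombination A v)

theorem isFrame_basis (b : Module.Basis (Fin d) A M) : IsFrame A (⇑b) := by
  have : Fintype.linearCombination A (⇑b) = b.equivFun.symm.toLinearMap := by
    ext r; simp [Fintype.linearCombination_apply]
  rw [IsFrame, this]
  exact b.equivFun.symm.bijective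

/-- The basis of a frame. -/
noncomputable def IsFrame.basis {v : Fin d → M} (h : IsFrame A v) : Module.Basis (Fin d) A M :=
  Module.Basis.ofEquivFun (LinearEquiv.ofBijective (Fintype.linearCombination A v) h).symm

theorem IsFrame.basis_apply {v : Fin d → M} (h : IsFrame A v) (i : Fin d) : h.basis i = v i := by
  classical
  simp only [IsFrame.basis, Module.Basis.coe_ofEquivFun, LinearEquiv.symm_symm]
  show Fintype.linearCombination A v (Pi.single i 1) = v i
  simp

theorem IsFrame.coe_basis {v : Fin d → M} (h : IsFrame A v) : ⇑h.basis = v :=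
  funext h.basis_apply

theorem isFrame_iff_isUnit_det (e : Module.Basis (Fin d) A M) (v : Fin d → M) :
    IsFrame A v ↔ IsUnit (e.det v) := by
  rw [← Module.Basis.is_basis_iff_det]
  constructor
  · intro h
    rw [← h.coe_basis]
    exact ⟨h.basis.linearIndependent, h.basis.span_eq⟩
  · rintro ⟨hli, hsp⟩
    have := isFrame_basis (Module.Basis.mk hli hsp.ge)
    rwa [Module.Basis.coe_mk] at this

variable {A' M' : Type u} [CommRing A'] [Algebra A A'] [AddCommGroup M'] [Module A M']
  [Module A' M'] [IsScalarTower A A' M']

theorem det_baseChange {j : M →ₗ[A] M'} (hj : IsBaseChange A' j) (e : Module.Basis (Fin d) A M)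
    (v : Fin d → M) :
    ∃ e' : Module.Basis (Fin d) A' M', e'.det (j ∘ v) = algebraMap A A' (e.det v) := by
  let e' := (e.baseChange A').map hj.equiv
  refine ⟨e', ?_⟩
  rw [Module.Basis.det_apply, Module.Basis.det_apply, RingHom.map_det]
  congr 1
  ext i k
  have hv : hj.equiv.symm (j (v k)) = (1 : A') ⊗ₜ[A] v k := by
    rw [LinearEquiv.symm_apply_eq, IsBaseChange.equiv_tmul, one_smul]
  rw [Module.Basis.toMatrix_apply, RingHom.mapMatrix_apply, Matrix.map_apply,
    Module.Basis.toMatrix_apply]
  simp [e', hv, Algebra.algebraMap_eq_smul_one]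

theorem IsFrame.baseChange {j : M →ₗ[A] M'} (hj : IsBaseChange A' j) {v : Fin d → M}
    (h : IsFrame A v) : IsFrame A' (j ∘ v) := by
  obtain ⟨e', he'⟩ := det_baseChange hj h.basis v
  rw [isFrame_iff_isUnit_det e', he']
  exact ((isFrame_iff_isUnit_det h.basis v).mp h).map _

theorem isFrame_map_iff {j : M →ₗ[A] M'} (hj : IsBaseChange A' j) (e : Module.Basis (Fin d) A M)
    (v : Fin d → M) : IsFrame A' (j ∘ v) ↔ IsUnit (algebraMap A A' (e.det v)) := by
  obtain ⟨e', he'⟩ := det_baseChange hj e v
  rw [isFrame_iff_isUnit_det e', he']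

/-- Picking a frame at a prime out of a generating family. -/
theorem exists_det_notMem {B : Type*} (e : Module.Basis (Fin d) A M) (β : B → M)
    (hβ : Submodule.span A (Set.range β) = ⊤) (p : Ideal A) [p.IsPrime] :
    ∃ b : Fin d → B, e.det (β ∘ b) ∉ p := by
  classical
  let κ := p.ResidueField
  let j : M →ₗ[A] κ ⊗[A] M := TensorProduct.mk A κ M 1
  have hj : IsBaseChange κ j := TensorProduct.isBaseChange A M κ
  have hspan : Submodule.span κ (Set.range (j ∘ β)) = ⊤ := by
    have key : ∀ m : M, j m ∈ Submodule.span κ (Set.range (j ∘ β)) := fun m => by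
      have hm : m ∈ Submodule.span A (Set.range β) := hβ ▸ Submodule.mem_top
      induction hm using Submodule.span_induction with
      | mem x hx => obtain ⟨w, rfl⟩ := hx; exact Submodule.subset_span ⟨w, rfl⟩
      | zero => simp
      | add x y _ _ hx hy => rw [map_add]; exact add_mem hx hy
      | smul a x _ hx => rw [map_smul, ← algebraMap_smul κ a (j x)]; exact Submodule.smul_mem _ _ hx
    rw [eq_top_iff]
    intro z _
    induction z with
    | zero => exact zero_mem _
    | tmul r m =>
      have : r ⊗ₜ[A] m = r • j m := by simp [j, TensorProduct.smul_tmul']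
      rw [this]
      exact Submodule.smul_mem _ r (key m)
    | add x y hx hy => exact add_mem (hx Submodule.mem_top) (hy Submodule.mem_top)
  obtain ⟨s, hs, hsp, hli⟩ := exists_linearIndependent κ (Set.range (j ∘ β))
  rw [hspan] at hsp
  let bs : Module.Basis s κ (κ ⊗[A] M) := Module.Basis.mk hli (by simp [hsp])
  let e0 := e.baseChange κ
  haveI : Fintype s := Fintype.ofEquiv _ (bs.indexEquiv e0).symm
  have hcard : Fintype.card s = d := by
    have := Fintype.card_congr (bs.indexEquiv e0)
    simpa using this
  let σ : Fin d ≃ s := (Fintype.equivFinOfCardEq hcard).symm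
  have hb : ∀ i, ∃ w, (j ∘ β) w = (σ i).1 := fun i => hs (σ i).2
  choose b hb using hb
  refine ⟨b, fun hmem => ?_⟩
  have hframe : IsFrame κ (j ∘ (β ∘ b)) := by
    have h1 : j ∘ (β ∘ b) = ⇑(bs.reindex σ.symm) := by
      funext i
      simp only [Function.comp_apply, Module.Basis.reindex_apply, Equiv.symm_symm]
      rw [show bs (σ i) = (σ i).1 from Module.Basis.mk_apply hli _ (σ i)]
      exact hb i
    rw [h1]
    exact isFrame_basis _
  have hu := (isFrame_map_iff hj e (β ∘ b)).mp hframe
  rw [Ideal.algebraMap_residueField_eq_zero.mpr hmem] at hu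
  exact not_isUnit_zero hu

end Groth.Agent.Lib.HilbD.Chart
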