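import Groth.Agent.Lib.HilbD.Chart.Frame
import Groth.Agent.Lib.HilbD.Content
import Groth.Agent.Lib.RelDiv.Rank
import Mathlib.RingTheory.Flat.LocallyFree

/-!
# Frames of a finite locally free scheme over an affine open of the base
-/

universe u

open CategoryTheory CategoryTheory.Limits AlgebraicGeometry
open scoped TensorProduct

namespace Groth.Agent.Lib.HilbD.Chart

set_option linter.style.haveILetI false
set_option backward.isDefEq.respectTransparency false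

variable {Z T Z' T' X : Scheme.{u}} {d : ℕ}

/-- On the open `W` of the base, `Z` lands in `U` and the functions `b` form a frame. -/
def FrameAt (π : Z ⟶ T) (u : Z ⟶ X) (U : X.Opens) (b : Fin d → Γ(X, U)) (W : T.Opens) : Prop :=
  ∃ e : π ⁻¹ᵁ W ≤ u ⁻¹ᵁ U,
    letI := (π.app W).hom.toAlgebra
    IsFrame Γ(T, W) (fun i => u.appLE U (π ⁻¹ᵁ W) e (b i))

section Pullback

variable {g' : Z' ⟶ Z} {π' : Z' ⟶ T'} {π : Z ⟶ T} {g : T' ⟶ T}
  (sq : IsPullback g' π' π g) [IsAffineHom π] [IsAffineHom π'] {u : Z ⟶ X} {U : X.Opens}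
  {b : Fin d → Γ(X, U)} {W : T.Opens} {W' : T'.Opens}

theorem preimage_le (sq : IsPullback g' π' π g) (e : W' ≤ g ⁻¹ᵁ W) :
    π' ⁻¹ᵁ W' ≤ g' ⁻¹ᵁ (π ⁻¹ᵁ W) := by
  rw [← Scheme.Hom.comp_preimage, sq.w, Scheme.Hom.comp_preimage]
  exact π'.preimage_mono e

include sq in
/-- Base change of coordinates, affine by affine. -/
theorem isBaseChange_appLE (hW : IsAffineOpen W) (hW' : IsAffineOpen W') (e : W' ≤ g ⁻¹ᵁ W) :
    letI := (π.app W).hom.toAlgebra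
    letI := (π'.app W').hom.toAlgebra
    letI := (g.appLE W W' e).hom.toAlgebra
    letI := ((π'.app W').hom.comp (g.appLE W W' e).hom).toAlgebra
    haveI : IsScalarTower Γ(T, W) Γ(T', W') Γ(Z', π' ⁻¹ᵁ W') := .of_algebraMap_eq' rfl
    ∃ j : Γ(Z, π ⁻¹ᵁ W) →ₗ[Γ(T, W)] Γ(Z', π' ⁻¹ᵁ W'),
      IsBaseChange Γ(T', W') j ∧ ∀ x, j x = g'.appLE _ _ (preimage_le sq e) x := by
  letI := (π.app W).hom.toAlgebra
  letI := (π'.app W').hom.toAlgebra
  letI := (g.appLE W W' e).hom.toAlgebra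
  letI := (g'.appLE (π ⁻¹ᵁ W) (π' ⁻¹ᵁ W') (preimage_le sq e)).hom.toAlgebra
  letI := ((π'.app W').hom.comp (g.appLE W W' e).hom).toAlgebra
  have hpush := Content.isPushout_appLE sq ⟨W, hW⟩ ⟨W', hW'⟩ e (preimage_le sq e)
  haveI : IsScalarTower Γ(T, W) Γ(T', W') Γ(Z', π' ⁻¹ᵁ W') := .of_algebraMap_eq' rfl
  haveI : IsScalarTower Γ(T, W) Γ(Z, π ⁻¹ᵁ W) Γ(Z', π' ⁻¹ᵁ W') :=
    .of_algebraMap_eq' (congrArg CommRingCat.Hom.hom hpush.w)
  have hp : Algebra.IsPushout Γ(T, W) Γ(T', W') Γ(Z, π ⁻¹ᵁ W) Γ(Z', π' ⁻¹ᵁ W') :=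
    CommRingCat.isPushout_iff_isPushout.mp hpush
  exact ⟨_, hp.out, fun x => rfl⟩

theorem appLE_comp_coord (hu : π ⁻¹ᵁ W ≤ u ⁻¹ᵁ U) (e : W' ≤ g ⁻¹ᵁ W)
    (hu' : π' ⁻¹ᵁ W' ≤ (g' ≫ u) ⁻¹ᵁ U) (sq : IsPullback g' π' π g) (x : Γ(X, U)) :
    g'.appLE _ _ (preimage_le sq e) (u.appLE U (π ⁻¹ᵁ W) hu x) =
      (g' ≫ u).appLE U (π' ⁻¹ᵁ W') hu' x := by
  rw [← CommRingCat.comp_apply, Scheme.Hom.appLE_comp_appLE]

include sq in
theorem FrameAt.pullback (h : FrameAt π u U b W) (hW : IsAffineOpen W) (hW' : IsAffineOpen W')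
    (e : W' ≤ g ⁻¹ᵁ W) : FrameAt π' (g' ≫ u) U b W' := by
  obtain ⟨hu, hf⟩ := h
  have hu' : π' ⁻¹ᵁ W' ≤ (g' ≫ u) ⁻¹ᵁ U := by
    rw [Scheme.Hom.comp_preimage]
    exact (preimage_le sq e).trans (g'.preimage_mono hu)
  refine ⟨hu', ?_⟩
  letI := (π.app W).hom.toAlgebra
  letI := (π'.app W').hom.toAlgebra
  letI := (g.appLE W W' e).hom.toAlgebra
  letI := ((π'.app W').hom.comp (g.appLE W W' e).hom).toAlgebra
  haveI : IsScalarTower Γ(T, W) Γ(T', W') Γ(Z', π' ⁻¹ᵁ W') := .of_algebraMap_eq' rfl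
  obtain ⟨j, hj, hje⟩ := isBaseChange_appLE sq hW hW' e
  have h2 := hf.baseChange hj
  have h3 : (⇑j ∘ fun i => u.appLE U (π ⁻¹ᵁ W) hu (b i)) =
      fun i => (g' ≫ u).appLE U (π' ⁻¹ᵁ W') hu' (b i) :=
    funext fun i => (hje _).trans (appLE_comp_coord hu e hu' sq (b i))
  rwa [h3] at h2

end Pullback

theorem FrameAt.mono {π : Z ⟶ T} [IsAffineHom π] {u : Z ⟶ X} {U : X.Opens} {b : Fin d → Γ(X, U)}
    {W W' : T.Opens} (h : FrameAt π u U b W) (hW : IsAffineOpen W) (hW' : IsAffineOpen W')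
    (e : W' ≤ W) : FrameAt π u U b W' := by
  have := h.pullback (IsPullback.of_id_fst (f := π)) hW hW' e
  rwa [Category.id_comp] at this

/-- Locally on the base a finite locally free scheme has a basis. -/
theorem exists_nhd_basis (π : Z ⟶ T) (hπ : Mor2.IsFinLocFreeOfDeg d π) {W : T.Opens}
    (hW : IsAffineOpen W) (t : T) (ht : t ∈ W) :
    ∃ a : Γ(T, W), t ∈ T.basicOpen a ∧
      letI := (π.app (T.basicOpen a)).hom.toAlgebra
      Nonempty (Module.Basis (Fin d) Γ(T, T.basicOpen a) Γ(Z, π ⁻¹ᵁ T.basicOpen a)) := by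
  obtain ⟨hfin, hflat, hlfp⟩ := hπ.1
  letI := (π.app W).hom.toAlgebra
  haveI := Content.projective_app π hπ.1 ⟨W, hW⟩
  haveI : Module.Finite Γ(T, W) Γ(Z, π ⁻¹ᵁ W) :=
    RingHom.finite_algebraMap.mp (π.finite_app W hW)
  have hrank : ∀ q : PrimeSpectrum Γ(T, W), Module.rankAtStalk Γ(Z, π ⁻¹ᵁ W) q = d := fun q => by
    have hmem : hW.fromSpec q ∈ W := by
      rw [← SetLike.mem_coe, ← hW.range_fromSpec]; exact ⟨q, rfl⟩
    have hq : hW.primeIdealOf ⟨_, hmem⟩ = q := by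
      haveI := hW.isOpenImmersion_fromSpec
      exact hW.fromSpec.isOpenEmbedding.injective (hW.fromSpec_primeIdealOf _)
    rw [← hq, ← RelDiv.Rank.finrank_eq_rankAtStalk π hW _ hmem, hπ.2]
  obtain ⟨a, ha, hfree⟩ := Module.Free.away_of_finite_of_flat_of_rankAtStalk_constant
    Γ(Z, π ⁻¹ᵁ W) (hW.primeIdealOf ⟨t, ht⟩).asIdeal (fun m _ => (hrank _).trans (hrank _).symm)
  have hta : t ∈ T.basicOpen a :=
    (Groth.Agent.Lib.Ideal.EffCartier.mem_basicOpen_iff_notMem_prime hW ht a).mpr ha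
  refine ⟨a, hta, ?_⟩
  let D := T.basicOpen a
  have hD : IsAffineOpen D := hW.basicOpen a
  have e : D ≤ (𝟙 T : T ⟶ T) ⁻¹ᵁ W := T.basicOpen_le a
  letI := (π.app D).hom.toAlgebra
  letI := ((𝟙 T : T ⟶ T).appLE W D e).hom.toAlgebra
  letI := ((π.app D).hom.comp ((𝟙 T : T ⟶ T).appLE W D e).hom).toAlgebra
  haveI : IsScalarTower Γ(T, W) Γ(T, D) Γ(Z, π ⁻¹ᵁ D) := .of_algebraMap_eq' rfl
  obtain ⟨j, hj, -⟩ := isBaseChange_appLE (IsPullback.of_id_fst (f := π)) hW hD e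
  haveI : IsLocalization.Away a Γ(T, D) := by
    have hL := hW.isLocalization_basicOpen a
    refine (IsLocalization.isLocalization_iff_of_algEquiv _ ?_).mp hL
    exact { RingEquiv.refl Γ(T, D) with
      commutes' := fun r => by
        show T.presheaf.map (homOfLE (T.basicOpen_le a)).op r =
          (𝟙 T : T ⟶ T).appLE W D e r
        rw [Scheme.Hom.appLE, Scheme.Hom.id_app, Category.id_comp] }
  let Aa := Localization.Away a
  let ε : Aa ≃ₐ[Γ(T, W)] Γ(T, D) := IsLocalization.algEquiv (Submonoid.powers a) _ _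
  letI := ε.toRingEquiv.toRingHom.toAlgebra
  haveI : IsScalarTower Γ(T, W) Aa Γ(T, D) := .of_algebraMap_eq fun x => (ε.commutes x).symm
  haveI : Module.Free Γ(T, D) (Γ(T, D) ⊗[Γ(T, W)] Γ(Z, π ⁻¹ᵁ W)) := by
    haveI : Module.Free Aa (Aa ⊗[Γ(T, W)] Γ(Z, π ⁻¹ᵁ W)) :=
      Module.Free.of_equiv (LocalizedModule.isBaseChange (Submonoid.powers a) _).equiv.symm
    exact Module.Free.of_equiv (TensorProduct.AlgebraTensorModule.cancelBaseChange
      Γ(T, W) Aa Γ(T, D) Γ(T, D) Γ(Z, π ⁻¹ᵁ W))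
  haveI : Module.Free Γ(T, D) Γ(Z, π ⁻¹ᵁ D) := Module.Free.of_equiv hj.equiv
  haveI : Module.Finite Γ(T, D) Γ(Z, π ⁻¹ᵁ D) := Module.Finite.equiv hj.equiv
  haveI : Nontrivial Γ(T, D) := by
    haveI : Nonempty D := ⟨⟨t, hta⟩⟩
    exact T.component_nontrivial D
  have hd : Module.finrank Γ(T, D) Γ(Z, π ⁻¹ᵁ D) = d := by
    have h1 := RelDiv.Rank.finrank_eq_rankAtStalk π hD t hta
    rw [hπ.2, Module.rankAtStalk_eq_finrank_of_free] at h1
    exact h1.symm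
  exact ⟨Module.finBasisOfFinrankEq _ _ hd⟩

end Groth.Agent.Lib.HilbD.Chart
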