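import Groth.Agent.Lib.HilbD.Chart.Classify
import Groth.Agent.Lib.HilbD.Glue

/-!
# The open locus of a chart
-/

universe u

open CategoryTheory CategoryTheory.Limits AlgebraicGeometry
open scoped TensorProduct

namespace Groth.Agent.Lib.HilbD.Chart

set_option linter.style.haveILetI false
set_option backward.isDefEq.respectTransparency false

variable {X S : Scheme.{u}} {f : X ⟶ S} {d : ℕ} (c : Idx f d)

/-- An open subscheme of an `S`-scheme. -/
noncomputable abbrev res (T : Over S) (W : T.left.Opens) : Over S := Over.mk (W.ι ≫ T.hom)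

/-- The inclusion of an open subscheme. -/
noncomputable abbrev resι (T : Over S) (W : T.left.Opens) : res T W ⟶ T := Over.homMk W.ι rfl

theorem pull_map_data {T T' : Over S} (q : T' ⟶ T) (I : (PicF.XT f T).IdealSheafData) :
    ∃ g' : (_root_.HilbD.pull f q I).subscheme ⟶ I.subscheme,
      IsPullback g' (prI (_root_.HilbD.pull f q I)) (prI I) q.left ∧
      g' ≫ toXI I = toXI (_root_.HilbD.pull f q I) := by
  rw [Basic.pull_eq_comap]
  refine ⟨_, Basic.isPullback_comap_proj (Basic.isPullback_XTmap f q) I, ?_⟩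
  rw [← Category.assoc, (Basic.isPullback_comapMap _ _).w, Category.assoc, Basic.XTmap_fst]

theorem frameAt_pull {T T' : Over S} (q : T' ⟶ T) (Z : _root_.HilbD.Obj f d T) {W : T.left.Opens}
    {W' : T'.left.Opens} (h : FrameAt (prI Z.1) (toXI Z.1) c.U.1 c.b W) (hW : IsAffineOpen W)
    (hW' : IsAffineOpen W') (e : W' ≤ q.left ⁻¹ᵁ W) :
    FrameAt (prI (_root_.HilbD.pull f q Z.1)) (toXI (_root_.HilbD.pull f q Z.1)) c.U.1 c.b W' := by
  obtain ⟨g', sq, hg⟩ := pull_map_data q Z.1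
  haveI : IsFinite (prI Z.1) := Z.2.1.1
  haveI : IsFinite (prI (_root_.HilbD.pull f q Z.1)) :=
    MorphismProperty.of_isPullback sq ‹IsFinite (prI Z.1)›
  rw [← hg]
  exact h.pullback sq hW hW' e

/-- The affine opens over which the family is in the chart. -/
def InChart {T : Over S} (I : (PicF.XT f T).IdealSheafData) (W : T.left.Opens) : Prop :=
  IsAffineOpen W ∧ W ≤ T.hom ⁻¹ᵁ c.V.1 ∧ FrameAt (prI I) (toXI I) c.U.1 c.b W

/-- The locus of the chart. -/
def locus {T : Over S} (I : (PicF.XT f T).IdealSheafData) : T.left.Opens :=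
  ⨆ W : {W : T.left.Opens // InChart c I W}, W.1

theorem mem_locus {T : Over S} {I : (PicF.XT f T).IdealSheafData} {t : T.left} :
    t ∈ locus c I ↔ ∃ W, InChart c I W ∧ t ∈ W := by
  simp [locus]

theorem mem_locus_of_det {T : Over S} (Z : _root_.HilbD.Obj f d T) {D : T.left.Opens}
    (hD : IsAffineOpen D) (hV : D ≤ T.hom ⁻¹ᵁ c.V.1)
    (hu : prI Z.1 ⁻¹ᵁ D ≤ toXI Z.1 ⁻¹ᵁ c.U.1) {t : T.left}
    (bM : letI := ((prI Z.1).app D).hom.toAlgebra
      Module.Basis (Fin d) Γ(T.left, D) Γ(Z.1.subscheme, prI Z.1 ⁻¹ᵁ D))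
    (hdet : t ∈ T.left.basicOpen (letI := ((prI Z.1).app D).hom.toAlgebra
      bM.det (fun i => (toXI Z.1).appLE c.U.1 (prI Z.1 ⁻¹ᵁ D) hu (c.b i)))) :
    t ∈ locus c Z.1 := by
  let π := prI Z.1
  let u := toXI Z.1
  haveI : IsFinite π := Z.2.1.1
  letI := (π.app D).hom.toAlgebra
  set δ := bM.det (fun i => u.appLE c.U.1 (π ⁻¹ᵁ D) hu (c.b i)) with hδ
  let D' := T.left.basicOpen δ
  have hD' : IsAffineOpen D' := hD.basicOpen δ
  have e : D' ≤ (𝟙 T.left : T.left ⟶ T.left) ⁻¹ᵁ D := T.left.basicOpen_le δ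
  refine (mem_locus c).mpr ⟨D', ⟨hD', (T.left.basicOpen_le δ).trans hV, ?_⟩, hdet⟩
  letI := (π.app D').hom.toAlgebra
  letI := ((𝟙 T.left : T.left ⟶ T.left).appLE D D' e).hom.toAlgebra
  letI := ((π.app D').hom.comp ((𝟙 T.left : T.left ⟶ T.left).appLE D D' e).hom).toAlgebra
  haveI : IsScalarTower Γ(T.left, D) Γ(T.left, D') Γ(Z.1.subscheme, π ⁻¹ᵁ D') :=
    .of_algebraMap_eq' rfl
  have sq : IsPullback (𝟙 Z.1.subscheme) π π (𝟙 T.left) := IsPullback.of_id_fst
  obtain ⟨j, hj, hje⟩ := isBaseChange_appLE sq hD hD' e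
  have hunit : IsUnit (algebraMap Γ(T.left, D) Γ(T.left, D') δ) := by
    show IsUnit ((𝟙 T.left : T.left ⟶ T.left).appLE D D' e δ)
    rw [Scheme.Hom.appLE, Scheme.Hom.id_app, Category.id_comp]
    exact RingedSpace.isUnit_res_basicOpen _ δ
  have hfr := (isFrame_map_iff hj bM _).mpr hunit
  have hu' : π ⁻¹ᵁ D' ≤ u ⁻¹ᵁ c.U.1 := (π.preimage_mono (T.left.basicOpen_le δ)).trans hu
  refine ⟨hu', ?_⟩
  have h3 : (⇑j ∘ fun i => u.appLE c.U.1 (π ⁻¹ᵁ D) hu (c.b i)) =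
      fun i => u.appLE c.U.1 (π ⁻¹ᵁ D') hu' (c.b i) := funext fun i => by
    rw [Function.comp_apply, hje, ← CommRingCat.comp_apply, Scheme.Hom.appLE_comp_appLE]
    simp only [Category.id_comp]
  rwa [h3] at hfr

variable [IsSeparated f]

theorem exists_classify_of_cover {T : Over S} (Z : _root_.HilbD.Obj f d T)
    (h : ∀ t : T.left, t ∈ locus c Z.1) :
    ∃ k : T ⟶ c.H, _root_.HilbD.pull f k c.fam.1 = Z.1 := by
  choose W hW htW using fun t => (mem_locus c).mp (h t)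
  let 𝓤 : T.left.OpenCover := T.left.openCoverOfIsOpenCover W
    (TopologicalSpace.IsOpenCover.mk (eq_top_iff.mpr fun t _ =>
      TopologicalSpace.Opens.mem_iSup.mpr ⟨t, htW t⟩))
  have hk : ∀ t, ∃ k : res T (W t) ⟶ c.H,
      _root_.HilbD.pull f k c.fam.1 = _root_.HilbD.pull f (resι T (W t)) Z.1 := fun t => by
    haveI : IsAffine (res T (W t)).left := (hW t).1
    refine exists_classify c (Basic.pullObj f (resι T (W t)) Z) ?_ ?_
    · intro y _
      show T.hom ((W t).ι y) ∈ c.V.1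
      exact (hW t).2.1 y.2
    · exact frameAt_pull c (resι T (W t)) Z (hW t).2.2 (hW t).1 (isAffineOpen_top _)
        (fun y _ => y.2)
  choose k hk using hk
  have hcomp : ∀ i j, pullback.fst (𝓤.f i) (𝓤.f j) ≫ (k i).left =
      pullback.snd (𝓤.f i) (𝓤.f j) ≫ (k j).left := fun i j => by
    let P : Over S := Over.mk (pullback.fst (W i).ι (W j).ι ≫ (W i).ι ≫ T.hom)
    let a : P ⟶ res T (W i) := Over.homMk (pullback.fst (W i).ι (W j).ι) rfl
    let b : P ⟶ res T (W j) := Over.homMk (pullback.snd (W i).ι (W j).ι) (by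
      show pullback.snd (W i).ι (W j).ι ≫ (W j).ι ≫ T.hom = _
      rw [← Category.assoc, ← pullback.condition, Category.assoc]
      rfl)
    have hab : a ≫ resι T (W i) = b ≫ resι T (W j) := by
      ext
      exact pullback.condition
    have := hom_ext c (k := a ≫ k i) (k' := b ≫ k j) (by
      rw [Basic.pull_comp, hk, ← Basic.pull_comp, hab, Basic.pull_comp, ← hk, ← Basic.pull_comp])
    exact congrArg (fun m => CommaMorphism.left m) this
  let kl : T.left ⟶ c.H.left := 𝓤.glueMorphisms (fun i => (k i).left) hcomp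
  have hι : ∀ i, (W i).ι ≫ kl = (k i).left := fun i => 𝓤.ι_glueMorphisms _ _ i
  let K : T ⟶ c.H := Over.homMk kl (by
    refine Scheme.Cover.hom_ext 𝓤 _ _ fun i => ?_
    show (W i).ι ≫ kl ≫ c.H.hom = (W i).ι ≫ T.hom
    rw [← Category.assoc, hι]
    exact Over.w (k i))
  refine ⟨K, ?_⟩
  let 𝓥 : Scheme.OpenCover (PicF.XT f T) := 𝓤.pullback₁ (PicF.XTproj f T)
  refine Glue.ext 𝓥 fun i => ?_
  have hKi : resι T (W i) ≫ K = k i := by
    ext
    exact hι i
  have h1 : _root_.HilbD.pull f (resι T (W i)) (_root_.HilbD.pull f K c.fam.1) =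
      _root_.HilbD.pull f (resι T (W i)) Z.1 := by
    rw [← Basic.pull_comp, hKi, hk]
  rw [Basic.pull_eq_comap, Basic.pull_eq_comap f (resι T (W i)) Z.1] at h1
  let sq := Basic.isPullback_XTmap f (resι T (W i))
  let θ : 𝓥.X i ⟶ PicF.XT f (res T (W i)) :=
    sq.lift (pullback.fst (PicF.XTproj f T) (W i).ι) (pullback.snd (PicF.XTproj f T) (W i).ι)
      pullback.condition
  have hθ : θ ≫ PicF.XTmap f (resι T (W i)) = 𝓥.f i := sq.lift_fst _ _ _
  rw [← hθ, Scheme.IdealSheafData.comap_comp, Scheme.IdealSheafData.comap_comp, h1]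

theorem mem_locus_of_pull {T T' : Over S} (Z : _root_.HilbD.Obj f d T) (h : T' ⟶ T)
    (k : T' ⟶ c.H) (hk : _root_.HilbD.pull f k c.fam.1 = _root_.HilbD.pull f h Z.1) (t' : T'.left) :
    h.left t' ∈ locus c Z.1 := by
  let t := h.left t'
  let π := prI Z.1
  let u := toXI Z.1
  haveI : IsFinite π := Z.2.1.1
  have htV : t ∈ T.hom ⁻¹ᵁ c.V.1 := by
    show (h.left ≫ T.hom) t' ∈ c.V.1
    rw [Over.w h, ← Over.w k]
    show c.V.2.fromSpec _ ∈ c.V.1
    rw [← SetLike.mem_coe, ← c.V.2.range_fromSpec]; exact ⟨_, rfl⟩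
  obtain ⟨g', sq, hg⟩ := pull_map_data h Z.1
  obtain ⟨W₀, hW₀, ht'W₀, -⟩ :=
    exists_isAffineOpen_mem_and_subset (show t' ∈ (⊤ : T'.left.Opens) from trivial)
  let C : Set T.left := π '' ((u ⁻¹ᵁ c.U.1 : Z.1.subscheme.Opens) : Set Z.1.subscheme)ᶜ
  have hC : IsClosed C := π.isClosedMap _ (u ⁻¹ᵁ c.U.1).2.isClosed_compl
  have htC : t ∉ C := by
    rintro ⟨z, hz, hzt⟩
    obtain ⟨w, hw1, hw2⟩ := Scheme.Pullback.exists_preimage_pullback z t' hzt
    let z' := sq.isoPullback.inv w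
    have hz1 : g' z' = z := by
      rw [← hw1]; exact congr($(sq.isoPullback_inv_fst) w)
    have hz2 : prI (_root_.HilbD.pull f h Z.1) z' = t' := by
      rw [← hw2]; exact congr($(sq.isoPullback_inv_snd) w)
    obtain ⟨e, -⟩ := frameAt_of_pull c k hk hW₀
    have hmem : z' ∈ toXI (_root_.HilbD.pull f h Z.1) ⁻¹ᵁ c.U.1 :=
      e (show prI (_root_.HilbD.pull f h Z.1) z' ∈ W₀ from hz2 ▸ ht'W₀)
    apply hz
    show u z ∈ c.U.1
    rw [← hz1]
    have := congr($hg z')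
    exact (congrArg (· ∈ c.U.1) this).mpr hmem
  obtain ⟨W, hW, htW, hWle⟩ := exists_isAffineOpen_mem_and_subset
    (show t ∈ T.hom ⁻¹ᵁ c.V.1 ⊓ ⟨Cᶜ, hC.isOpen_compl⟩ from ⟨htV, htC⟩)
  obtain ⟨a, hta, ⟨bM⟩⟩ := exists_nhd_basis π Z.2 hW t htW
  let D := T.left.basicOpen a
  have hD : IsAffineOpen D := hW.basicOpen a
  have hDV : D ≤ T.hom ⁻¹ᵁ c.V.1 := fun y hy => (hWle (T.left.basicOpen_le a hy)).1
  have hu : π ⁻¹ᵁ D ≤ u ⁻¹ᵁ c.U.1 := fun z hz => by
    by_contra hz'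
    exact (hWle (T.left.basicOpen_le a hz)).2 ⟨z, hz', rfl⟩
  refine mem_locus_of_det c Z hD hDV hu bM ?_
  obtain ⟨W', hW', ht'W', hW'le⟩ := exists_isAffineOpen_mem_and_subset
    (show t' ∈ h.left ⁻¹ᵁ D from hta)
  have e : W' ≤ h.left ⁻¹ᵁ D := hW'le
  obtain ⟨hu', hfr⟩ := frameAt_of_pull c k hk hW'
  let π' := prI (_root_.HilbD.pull f h Z.1)
  haveI : IsFinite π' := MorphismProperty.of_isPullback sq ‹IsFinite π›
  letI := (π.app D).hom.toAlgebra
  letI := (π'.app W').hom.toAlgebra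
  letI := (h.left.appLE D W' e).hom.toAlgebra
  letI := ((π'.app W').hom.comp (h.left.appLE D W' e).hom).toAlgebra
  haveI : IsScalarTower Γ(T.left, D) Γ(T'.left, W') Γ((_root_.HilbD.pull f h Z.1).subscheme, π' ⁻¹ᵁ W') :=
    .of_algebraMap_eq' rfl
  obtain ⟨j, hj, hje⟩ := isBaseChange_appLE sq hD hW' e
  have h3 : (⇑j ∘ fun i => u.appLE c.U.1 (π ⁻¹ᵁ D) hu (c.b i)) =
      fun i => (toXI (_root_.HilbD.pull f h Z.1)).appLE c.U.1 (π' ⁻¹ᵁ W') hu' (c.b i) :=
    funext fun i => by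
      rw [Function.comp_apply, hje, ← CommRingCat.comp_apply, Scheme.Hom.appLE_comp_appLE]
      simp only [u, hg]
      rfl
  rw [← h3] at hfr
  have hunit := (isFrame_map_iff hj bM _).mp hfr
  set δ := bM.det (fun i => u.appLE c.U.1 (π ⁻¹ᵁ D) hu (c.b i))
  have hb : T'.left.basicOpen (h.left.appLE D W' e δ) = W' := T'.left.basicOpen_of_isUnit hunit
  have : t' ∈ W' ⊓ h.left ⁻¹ᵁ T.left.basicOpen δ := by
    rw [← Scheme.basicOpen_appLE h.left W' D e δ, hb]; exact ht'W'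
  exact this.2

end Groth.Agent.Lib.HilbD.Chart
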