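import Groth.Agent.Lib.HilbD.Chart.Cover
import Mathlib.AlgebraicGeometry.Sites.Representability
import Mathlib.CategoryTheory.Limits.Types.Pullbacks

/-!
# Representability of the Hilbert functor of points
-/

universe u

open CategoryTheory CategoryTheory.Limits AlgebraicGeometry Opposite

namespace Groth.Agent.Lib.HilbD.Chart

set_option linter.style.haveILetI false
set_option backward.isDefEq.respectTransparency false

variable {X S : Scheme.{u}} (f : X ⟶ S) (d : ℕ)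

/-- The elements over a scheme: a structure map and a family. -/
def FObj (T : Scheme.{u}) : Type u := Σ g : T ⟶ S, _root_.HilbD.Obj f d (Over.mk g)

variable {f d}

/-- Restriction of elements. -/
noncomputable def mapF {T T' : Scheme.{u}} (h : T' ⟶ T) (x : FObj f d T) : FObj f d T' :=
  ⟨h ≫ x.1, Basic.pullObj f (Over.homMk h rfl : Over.mk (h ≫ x.1) ⟶ Over.mk x.1) x.2⟩

theorem mapF_eq_iff {T T' : Scheme.{u}} (h : T' ⟶ T) (x : FObj f d T) (y : FObj f d T') :
    mapF h x = y ↔ ∃ w : h ≫ x.1 = y.1,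
      _root_.HilbD.pull f (Over.homMk h w : Over.mk y.1 ⟶ Over.mk x.1) x.2.1 = y.2.1 := by
  obtain ⟨g', Z'⟩ := y
  constructor
  · intro he
    obtain ⟨h1, h2⟩ := Sigma.mk.inj_iff.mp he
    subst h1
    exact ⟨rfl, congrArg Subtype.val (eq_of_heq h2)⟩
  · rintro ⟨w, hw⟩
    simp only at w
    subst w
    refine Sigma.ext rfl (heq_of_eq (Subtype.ext ?_))
    exact hw

theorem mapF_id {T : Scheme.{u}} (x : FObj f d T) : mapF (𝟙 T) x = x := by
  refine (mapF_eq_iff _ _ _).mpr ⟨Category.id_comp _, ?_⟩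
  convert Basic.pull_id f (Over.mk x.1) x.2.1 using 2
  ext
  rfl

theorem mapF_comp {T T' T'' : Scheme.{u}} (h : T'' ⟶ T') (h' : T' ⟶ T) (x : FObj f d T) :
    mapF (h ≫ h') x = mapF h (mapF h' x) := by
  refine (mapF_eq_iff _ _ _).mpr ⟨Category.assoc _ _ _, ?_⟩
  show _ = _root_.HilbD.pull f _ (_root_.HilbD.pull f _ x.2.1)
  rw [← Basic.pull_comp]
  congr 1

variable (f d) in
/-- The functor of elements. -/
noncomputable def functor : Scheme.{u}ᵒᵖ ⥤ Type u where
  obj T := FObj f d T.unop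
  map h := ↾(mapF h.unop)
  map_id T := by ext x; exact mapF_id x
  map_comp h h' := by ext x; exact mapF_comp h'.unop h.unop x

theorem functor_map {T T' : Scheme.{u}} (h : T' ⟶ T) (x : FObj f d T) :
    (functor f d).map h.op x = mapF h x := rfl

theorem finLocFreeOfDeg_of_cover {T : Over S} (𝓤 : T.left.OpenCover)
    (I : (PicF.XT f T).IdealSheafData)
    (h : ∀ i, Mor2.IsFinLocFreeOfDeg d ((_root_.HilbD.pull f
      (Over.homMk (𝓤.f i) rfl : Over.mk (𝓤.f i ≫ T.hom) ⟶ T) I).subschemeι ≫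
        PicF.XTproj f (Over.mk (𝓤.f i ≫ T.hom)))) :
    Mor2.IsFinLocFreeOfDeg d (I.subschemeι ≫ PicF.XTproj f T) := by
  let π := I.subschemeι ≫ PicF.XTproj f T
  have hd : ∀ i, Mor2.IsFinLocFreeOfDeg d (pullback.snd π (𝓤.f i)) := fun i => by
    obtain ⟨g', sq, -⟩ := pull_map_data (Over.homMk (𝓤.f i) rfl : Over.mk (𝓤.f i ≫ T.hom) ⟶ T) I
    exact (congrArg (Mor2.IsFinLocFreeOfDeg d) sq.isoPullback_inv_snd).mp
      ((MorphismProperty.cancel_left_of_respectsIso (AlgSp.finLocFreeOfDeg d) _ _).mpr (h i))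
  haveI : IsFinite π := IsZariskiLocalAtTarget.of_openCover 𝓤 fun i => (hd i).1.1
  haveI : Flat π := IsZariskiLocalAtTarget.of_openCover 𝓤 fun i => (hd i).1.2.1
  haveI : LocallyOfFinitePresentation π :=
    IsZariskiLocalAtTarget.of_openCover 𝓤 fun i => (hd i).1.2.2
  refine ⟨⟨inferInstance, inferInstance, inferInstance⟩, fun y => ?_⟩
  obtain ⟨i, z, rfl⟩ := 𝓤.exists_eq y
  show π.finrank (𝓤.f i z) = d
  rw [← Scheme.Hom.finrank_pullback_snd, (hd i).2]

theorem isSheaf_functor : Presieve.IsSheaf Scheme.zariskiTopology (functor f d) := by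
  rw [Precoverage.isSheaf_toGrothendieck_iff_of_isStableUnderBaseChange]
  rintro Y R hR x hx
  obtain ⟨(𝓤 : Scheme.OpenCover Y), rfl⟩ := Scheme.exists_cover_of_mem_pretopology hR
  let g : ∀ i, 𝓤.X i ⟶ S := fun i => (x (𝓤.f i) (.mk i)).1
  let Zi : ∀ i, _root_.HilbD.Obj f d (Over.mk (g i)) := fun i => (x (𝓤.f i) (.mk i)).2
  have hcompat : ∀ i j, mapF (pullback.fst (𝓤.f i) (𝓤.f j)) (x (𝓤.f i) (.mk i)) =
      mapF (pullback.snd (𝓤.f i) (𝓤.f j)) (x (𝓤.f j) (.mk j)) := fun i j =>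
    hx _ _ (.mk i) (.mk j) pullback.condition
  have hg : ∀ i j, pullback.fst (𝓤.f i) (𝓤.f j) ≫ g i = pullback.snd (𝓤.f i) (𝓤.f j) ≫ g j :=
    fun i j => congrArg Sigma.fst (hcompat i j)
  let gY : Y ⟶ S := 𝓤.glueMorphisms g hg
  have hgY : ∀ i, 𝓤.f i ≫ gY = g i := fun i => 𝓤.ι_glueMorphisms _ _ i
  let T : Over S := Over.mk gY
  let q : ∀ i, Over.mk (g i) ⟶ T := fun i => Over.homMk (𝓤.f i) (hgY i)
  let 𝓥 : Scheme.OpenCover (PicF.XT f T) := 𝓤.pullback₁ (PicF.XTproj f T)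
  let θ : ∀ i, 𝓥.X i ⟶ PicF.XT f (Over.mk (g i)) := fun i =>
    (Basic.isPullback_XTmap f (q i)).lift (pullback.fst (PicF.XTproj f T) (𝓤.f i))
      (pullback.snd (PicF.XTproj f T) (𝓤.f i)) pullback.condition
  have hθ : ∀ i, θ i ≫ PicF.XTmap f (q i) = 𝓥.f i := fun i =>
    (Basic.isPullback_XTmap f (q i)).lift_fst _ _ _
  have hθ2 : ∀ i, θ i ≫ PicF.XTproj f (Over.mk (g i)) =
      pullback.snd (PicF.XTproj f T) (𝓤.f i) :=
    fun i => (Basic.isPullback_XTmap f (q i)).lift_snd _ _ _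
  let θinv : ∀ i, PicF.XT f (Over.mk (g i)) ⟶ 𝓥.X i := fun i =>
    pullback.lift (PicF.XTmap f (q i)) (PicF.XTproj f (Over.mk (g i)))
      (Basic.isPullback_XTmap f (q i)).w
  have hinv : ∀ i, θinv i ≫ θ i = 𝟙 _ := fun i => by
    apply (Basic.isPullback_XTmap f (q i)).hom_ext
    · rw [Category.assoc, hθ, Category.id_comp]; exact pullback.lift_fst _ _ _
    · rw [Category.assoc, hθ2, Category.id_comp]; exact pullback.lift_snd _ _ _
  let J : ∀ i, (𝓥.X i).IdealSheafData := fun i => (Zi i).1.comap (θ i)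
  have hJ : ∀ i j, (J i).comap (pullback.fst (𝓥.f i) (𝓥.f j)) =
      (J j).comap (pullback.snd (𝓥.f i) (𝓥.f j)) := fun i j => by
    let Q := pullback (𝓤.f i) (𝓤.f j)
    let a : pullback (𝓥.f i) (𝓥.f j) ⟶ Q := pullback.lift
      (pullback.fst (𝓥.f i) (𝓥.f j) ≫ pullback.snd (PicF.XTproj f T) (𝓤.f i))
      (pullback.snd (𝓥.f i) (𝓥.f j) ≫ pullback.snd (PicF.XTproj f T) (𝓤.f j)) (by
        simp only [Category.assoc, ← pullback.condition]
        exact congrArg (· ≫ PicF.XTproj f T) (pullback.condition (f := 𝓥.f i) (g := 𝓥.f j))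
          |> fun e => (Category.assoc _ _ _).symm.trans (e.trans (Category.assoc _ _ _)))
    let qi : Over.mk (pullback.fst (𝓤.f i) (𝓤.f j) ≫ g i) ⟶ Over.mk (g i) :=
      Over.homMk (pullback.fst (𝓤.f i) (𝓤.f j)) rfl
    let qj : Over.mk (pullback.fst (𝓤.f i) (𝓤.f j) ≫ g i) ⟶ Over.mk (g j) :=
      Over.homMk (pullback.snd (𝓤.f i) (𝓤.f j)) (hg i j).symm
    obtain ⟨w, hw⟩ := (mapF_eq_iff _ _ _).mp (hcompat i j).symm
    have hw' : _root_.HilbD.pull f qj (Zi j).1 = _root_.HilbD.pull f qi (Zi i).1 := hw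
    let qQ : Over.mk (pullback.fst (𝓤.f i) (𝓤.f j) ≫ g i) ⟶ T := qi ≫ q i
    have hqq : qQ = qj ≫ q j := by
      ext
      exact pullback.condition
    let ω : pullback (𝓥.f i) (𝓥.f j) ⟶ PicF.XT f (Over.mk (pullback.fst (𝓤.f i) (𝓤.f j) ≫ g i)) :=
      (Basic.isPullback_XTmap f qQ).lift (pullback.fst (𝓥.f i) (𝓥.f j) ≫ 𝓥.f i) a (by
        show (pullback.fst (𝓥.f i) (𝓥.f j) ≫ pullback.fst (PicF.XTproj f T) (𝓤.f i)) ≫ _ =
          a ≫ pullback.fst (𝓤.f i) (𝓤.f j) ≫ 𝓤.f i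
        rw [← Category.assoc a, pullback.lift_fst, Category.assoc, Category.assoc,
          pullback.condition])
    have h1 : ω ≫ PicF.XTmap f qi = pullback.fst (𝓥.f i) (𝓥.f j) ≫ θ i := by
      apply (Basic.isPullback_XTmap f (q i)).hom_ext
      · rw [Category.assoc, Category.assoc, hθ, ← Basic.XTmap_comp]
        exact (Basic.isPullback_XTmap f qQ).lift_fst _ _ _
      · rw [Category.assoc, Category.assoc, hθ2, Basic.XTmap_snd, ← Category.assoc,
          (Basic.isPullback_XTmap f qQ).lift_snd]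
        exact pullback.lift_fst _ _ _
    have h2 : ω ≫ PicF.XTmap f qj = pullback.snd (𝓥.f i) (𝓥.f j) ≫ θ j := by
      apply (Basic.isPullback_XTmap f (q j)).hom_ext
      · rw [Category.assoc, Category.assoc, hθ, ← Basic.XTmap_comp, ← hqq, ← pullback.condition]
        exact (Basic.isPullback_XTmap f qQ).lift_fst _ _ _
      · rw [Category.assoc, Category.assoc, hθ2, Basic.XTmap_snd, ← Category.assoc,
          (Basic.isPullback_XTmap f qQ).lift_snd]
        exact pullback.lift_snd _ _ _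
    show ((Zi i).1.comap (θ i)).comap _ = ((Zi j).1.comap (θ j)).comap _
    rw [← Scheme.IdealSheafData.comap_comp, ← Scheme.IdealSheafData.comap_comp, ← h1, ← h2,
      Scheme.IdealSheafData.comap_comp, Scheme.IdealSheafData.comap_comp,
      ← Basic.pull_eq_comap, ← Basic.pull_eq_comap, hw']
  have hθ' : ∀ i (L L' : (PicF.XT f (Over.mk (g i))).IdealSheafData),
      L.comap (θ i) = L'.comap (θ i) → L = L' := fun i L L' he => by
    have := congrArg (fun K : (𝓥.X i).IdealSheafData => K.comap (θinv i)) he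
    simpa only [← Scheme.IdealSheafData.comap_comp, hinv, Scheme.IdealSheafData.comap_id] using this
  let I := Glue.glue 𝓥 J hJ
  have hI : ∀ i, _root_.HilbD.pull f (q i) I = (Zi i).1 := fun i => by
    apply hθ' i
    rw [Basic.pull_eq_comap, ← Scheme.IdealSheafData.comap_comp, hθ, Glue.comap_glue 𝓥 J hJ i]
  have hIdeg : Mor2.IsFinLocFreeOfDeg d (I.subschemeι ≫ PicF.XTproj f T) := by
    refine finLocFreeOfDeg_of_cover (T := T) 𝓤 I fun i => ?_
    have key : ∀ (h' : 𝓤.X i ⟶ S) (e : 𝓤.f i ≫ gY = h') (Z : _root_.HilbD.Obj f d (Over.mk h')),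
        _root_.HilbD.pull f (Over.homMk (𝓤.f i) e : Over.mk h' ⟶ T) I = Z.1 →
        Mor2.IsFinLocFreeOfDeg d ((_root_.HilbD.pull f
          (Over.homMk (𝓤.f i) rfl : Over.mk (𝓤.f i ≫ gY) ⟶ T) I).subschemeι ≫
            PicF.XTproj f (Over.mk (𝓤.f i ≫ gY))) := by
      rintro h' rfl Z hZ
      rw [hZ]
      exact Z.2
    exact key (g i) (hgY i) (Zi i) (hI i)
  refine ⟨⟨gY, ⟨I, hIdeg⟩⟩, ?_, ?_⟩
  · rintro W e ⟨i⟩
    exact (mapF_eq_iff _ _ _).mpr ⟨hgY i, hI i⟩
  · rintro ⟨g', I', hI'⟩ hamal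
    have he : ∀ i, mapF (𝓤.f i) ⟨g', ⟨I', hI'⟩⟩ = x (𝓤.f i) (.mk i) := fun i =>
      hamal (𝓤.f i) (.mk i)
    have hgg : g' = gY := by
      refine 𝓤.hom_ext _ _ fun i => ?_
      rw [hgY]
      exact congrArg Sigma.fst (he i)
    subst hgg
    refine Sigma.ext rfl (heq_of_eq (Subtype.ext (Glue.ext 𝓥 fun i => ?_)))
    obtain ⟨w, hw⟩ := (mapF_eq_iff _ _ _).mp (he i)
    have hw' : I'.comap (PicF.XTmap f (q i)) = (Zi i).1 := by
      rw [← Basic.pull_eq_comap]; exact hw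
    show I'.comap (𝓥.f i) = I.comap (𝓥.f i)
    rw [← hθ i, Scheme.IdealSheafData.comap_comp, Scheme.IdealSheafData.comap_comp, hw',
      ← Basic.pull_eq_comap, hI]

/-- The sheaf of elements. -/
noncomputable def sheaf (f : X ⟶ S) (d : ℕ) : Sheaf Scheme.zariskiTopology.{u} (Type u) :=
  ⟨functor f d, (isSheaf_iff_isSheaf_of_type _ _).mpr isSheaf_functor⟩

variable [IsSeparated f]

/-- The chart map. -/
noncomputable def chartMap (c : Idx f d) : yoneda.obj c.H.left ⟶ (sheaf f d).obj :=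
  yonedaEquiv.symm (⟨c.H.hom, c.fam⟩ : FObj f d c.H.left)

theorem chartMap_app (c : Idx f d) {T : Scheme.{u}} (k : T ⟶ c.H.left) :
    (chartMap c).app (op T) k = mapF k ⟨c.H.hom, c.fam⟩ := rfl

theorem chartMap_isOpenImmersion (c : Idx f d) : IsOpenImmersion.presheaf (chartMap c) := by
  refine MorphismProperty.relative.of_exists fun T g => ?_
  let x : FObj f d T := yonedaEquiv g
  let T₀ : Over S := Over.mk x.1
  let O := locus c x.2.1
  have hO : ∀ t : (res T₀ O).left, t ∈ locus c (Basic.pullObj f (resι T₀ O) x.2).1 := fun t => by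
    obtain ⟨W, ⟨hW, hWV, hfr⟩, htW⟩ := (mem_locus c).mp t.2
    obtain ⟨W', hW', htW', hle⟩ := exists_isAffineOpen_mem_and_subset
      (show t ∈ O.ι ⁻¹ᵁ W from htW)
    exact (mem_locus c).mpr ⟨W', ⟨hW', fun y hy => hWV (hle hy),
      frameAt_pull c (resι T₀ O) x.2 hfr hW hW' hle⟩, htW'⟩
  obtain ⟨k, hk⟩ := exists_classify_of_cover c (Basic.pullObj f (resι T₀ O) x.2) hO
  have hk' : mapF k.left ⟨c.H.hom, c.fam⟩ = mapF O.ι x :=
    (mapF_eq_iff _ _ _).mpr ⟨Over.w k, hk⟩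
  refine ⟨(O : Scheme.{u}), yoneda.map k.left, O.ι, ?_, inferInstanceAs (IsOpenImmersion O.ι)⟩
  have hg : ∀ {W : Scheme.{u}} (a : W ⟶ T), g.app (op W) a = mapF a x := fun a => by
    have := congr($(g.naturality a.op) (𝟙 T))
    simp [x, yonedaEquiv_apply] at this ⊢
    exact this
  refine IsPullback.of_forall_isPullback_app fun W => ?_
  rw [Types.isPullback_iff]
  obtain ⟨W⟩ := W
  refine ⟨?_, fun a b ⟨_, h2⟩ => ?_, fun (a : W ⟶ c.H.left) (b : W ⟶ T) hab => ?_⟩
  · ext a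
    show (chartMap c).app (op W) (a ≫ k.left) = g.app (op W) (a ≫ O.ι)
    rw [chartMap_app, hg, mapF_comp, mapF_comp, hk']
  · exact (cancel_mono O.ι).mp h2
  · change (chartMap c).app (op W) a = g.app (op W) b at hab
    rw [chartMap_app, hg] at hab
    have hw : a ≫ c.H.hom = b ≫ x.1 := congrArg Sigma.fst hab
    let W₀ : Over S := Over.mk (b ≫ x.1)
    let k₁ : W₀ ⟶ c.H := Over.homMk a hw
    let h₁ : W₀ ⟶ T₀ := Over.homMk b rfl
    have hpull : _root_.HilbD.pull f k₁ c.fam.1 = _root_.HilbD.pull f h₁ x.2.1 := by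
      obtain ⟨w, hw'⟩ := (mapF_eq_iff _ _ _).mp hab
      exact hw'
    have hrange : Set.range b ⊆ Set.range O.ι := by
      rw [Scheme.Opens.range_ι]
      rintro _ ⟨y, rfl⟩
      exact mem_locus_of_pull c x.2 h₁ k₁ hpull y
    let b' : W ⟶ O := IsOpenImmersion.lift O.ι b hrange
    have hb' : b' ≫ O.ι = b := IsOpenImmersion.lift_fac _ _ _
    refine ⟨b', ?_, hb'⟩
    show b' ≫ k.left = a
    have h3 : mapF (b' ≫ k.left) (⟨c.H.hom, c.fam⟩ : FObj f d c.H.left) = mapF a ⟨c.H.hom, c.fam⟩ := by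
      rw [mapF_comp, hk', ← mapF_comp, hb', hab]
    obtain ⟨w, hw'⟩ := (mapF_eq_iff _ _ _).mp h3
    have h4 := hom_ext c (T := Over.mk (a ≫ c.H.hom)) (k := Over.homMk (b' ≫ k.left) w)
      (k' := Over.homMk a rfl) hw'
    exact congrArg (fun m => CommaMorphism.left m) h4

theorem representable (h : ∀ (s : S) (x : Fin d → X), (∀ i, f.base (x i) = s) →
    ∃ U : X.Opens, IsAffineOpen U ∧ ∀ i, x i ∈ U) : _root_.HilbD.Representable f d := by
  have hf := fun c => chartMap_isOpenImmersion (f := f) (d := d) c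
  haveI : Presheaf.IsLocallySurjective Scheme.zariskiTopology
      (Sigma.desc (fun c : Idx f d => chartMap c)) := by
    constructor
    intro T x
    let T₀ : Over S := Over.mk (x : FObj f d T).1
    let Z : _root_.HilbD.Obj f d T₀ := (x : FObj f d T).2
    choose c hc using exists_mem_locus h Z
    choose W hW htW using fun t => (mem_locus (c t)).mp (hc t)
    let 𝓤 : T.OpenCover := T.openCoverOfIsOpenCover W
      (TopologicalSpace.IsOpenCover.mk (eq_top_iff.mpr fun t _ =>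
        TopologicalSpace.Opens.mem_iSup.mpr ⟨t, htW t⟩))
    refine GrothendieckTopology.superset_covering _ ?_ 𝓤.mem_grothendieckTopology
    rintro V e ⟨V', a, -, ⟨t⟩, rfl⟩
    refine Sieve.downward_closed _ ?_ a
    haveI : IsAffine (res T₀ (W t)).left := (hW t).1
    obtain ⟨k, hk⟩ := exists_classify (c t) (Basic.pullObj f (resι T₀ (W t)) Z)
      (fun y _ => (hW t).2.1 y.2)
      (frameAt_pull (c t) (resι T₀ (W t)) Z (hW t).2.2 (hW t).1 (isAffineOpen_top _)
        (fun y _ => y.2))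
    refine ⟨(Sigma.ι (fun c : Idx f d => yoneda.obj c.H.left) (c t)).app _ k.left, ?_⟩
    rw [← NatTrans.comp_app_apply, Sigma.ι_desc, chartMap_app]
    exact (mapF_eq_iff _ _ _).mpr ⟨Over.w k, hk⟩
  let G := (Scheme.LocalRepresentability.glueData hf).glued
  let rep : (functor f d).RepresentableBy G := Scheme.LocalRepresentability.representableBy hf
  let univ : FObj f d G := rep.homEquiv (𝟙 G)
  refine ⟨Over.mk univ.1, univ.2, fun T Z => ?_⟩
  let z : FObj f d T.left := ⟨T.hom, Z⟩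
  have hz : ∀ m : T.left ⟶ G, rep.homEquiv m = mapF m univ := fun m => by
    rw [rep.homEquiv_eq]; rfl
  obtain ⟨w, hw⟩ := (mapF_eq_iff _ _ _).mp ((hz (rep.homEquiv.symm z)).symm.trans
    (rep.homEquiv.apply_symm_apply z))
  refine ⟨Over.homMk (rep.homEquiv.symm z) w, hw, fun g' hg' => ?_⟩
  apply Over.OverMorphism.ext
  show g'.left = rep.homEquiv.symm z
  exact (Equiv.eq_symm_apply rep.homEquiv).mpr
    ((hz g'.left).trans ((mapF_eq_iff _ _ _).mpr ⟨Over.w g', hg'⟩))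

end Groth.Agent.Lib.HilbD.Chart
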