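import Mathlib.RingTheory.TensorProduct.Basic
import Mathlib.RingTheory.TensorProduct.Maps
import Mathlib.RingTheory.Ideal.Quotient.Operations
import Mathlib.Algebra.MvPolynomial.Eval
import Mathlib.LinearAlgebra.Basis.Basic
import Mathlib.LinearAlgebra.StdBasis

/-!
# The coordinate ring of a chart of the Hilbert scheme of points

For an `A`-algebra `B` and `b : Fin d → B`, `Ring A b` classifies quotient algebras of `A' ⊗ B`
which are free with basis the images of `b`; `Fam A b` is the universal quotient.
-/

universe u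

open scoped TensorProduct

namespace Groth.Agent.Lib.HilbD.Chart

variable (A : Type u) {B : Type u} [CommRing A] [CommRing B] [Algebra A B] {d : ℕ} (b : Fin d → B)

/-- The coordinate variable. -/
noncomputable abbrev var (x : B) (i : Fin d) : MvPolynomial (B × Fin d) A :=
  MvPolynomial.X (x, i)

/-- The defining relations. -/
def rels : Set (MvPolynomial (B × Fin d) A) :=
  Set.range (fun p : (B × B) × Fin d => var A (p.1.1 + p.1.2) p.2 - (var A p.1.1 p.2 + var A p.1.2 p.2))
  ∪ Set.range (fun p : (A × B) × Fin d =>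
      var A (p.1.1 • p.1.2) p.2 - MvPolynomial.C p.1.1 * var A p.1.2 p.2)
  ∪ Set.range (fun p : Fin d × Fin d => var A (b p.1) p.2 - if p.1 = p.2 then 1 else 0)
  ∪ Set.range (fun p : (B × B) × Fin d =>
      var A (p.1.1 * p.1.2) p.2 - ∑ j, var A p.1.1 j * var A (b j * p.1.2) p.2)

/-- The coordinate ring of the chart. -/
def Ring : Type u := MvPolynomial (B × Fin d) A ⧸ Ideal.span (rels A b)

noncomputable instance : CommRing (Ring A b) :=
  inferInstanceAs (CommRing (MvPolynomial (B × Fin d) A ⧸ Ideal.span (rels A b)))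

noncomputable instance : Algebra A (Ring A b) :=
  inferInstanceAs (Algebra A (MvPolynomial (B × Fin d) A ⧸ Ideal.span (rels A b)))

/-- The quotient map. -/
noncomputable def mk : MvPolynomial (B × Fin d) A →ₐ[A] Ring A b :=
  Ideal.Quotient.mkₐ A (Ideal.span (rels A b))

/-- The universal coordinates. -/
noncomputable def coeff (x : B) (i : Fin d) : Ring A b := mk A b (var A x i)

theorem mk_eq_of_mem {p q : MvPolynomial (B × Fin d) A} (h : p - q ∈ rels A b) :
    mk A b p = mk A b q :=
  Ideal.Quotient.eq.mpr (Ideal.subset_span h)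

theorem coeff_add (x y : B) (i : Fin d) :
    coeff A b (x + y) i = coeff A b x i + coeff A b y i := by
  rw [coeff, coeff, coeff, ← map_add]
  exact mk_eq_of_mem A b (Or.inl (Or.inl (Or.inl ⟨((x, y), i), rfl⟩)))

theorem coeff_smul (a : A) (x : B) (i : Fin d) :
    coeff A b (a • x) i = a • coeff A b x i := by
  rw [coeff, coeff, Algebra.smul_def a (mk A b _), ← (mk A b).commutes a, ← map_mul]
  exact mk_eq_of_mem A b (Or.inl (Or.inl (Or.inr ⟨((a, x), i), rfl⟩)))

theorem coeff_basis (j i : Fin d) : coeff A b (b j) i = if j = i then 1 else 0 := by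
  rw [show (if j = i then (1 : Ring A b) else 0) =
    mk A b (if j = i then 1 else 0 : MvPolynomial (B × Fin d) A) by split_ifs <;> simp,
    coeff]
  exact mk_eq_of_mem A b (Or.inl (Or.inr ⟨(j, i), rfl⟩))

theorem coeff_mul (x y : B) (i : Fin d) :
    coeff A b (x * y) i = ∑ j, coeff A b x j * coeff A b (b j * y) i := by
  simp only [coeff, ← map_mul, ← map_sum]
  exact mk_eq_of_mem A b (Or.inr ⟨((x, y), i), rfl⟩)

/-- The coordinate vector of an element of `B`, linearly. -/
noncomputable def coeffₗ : B →ₗ[A] (Fin d → Ring A b) where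
  toFun x i := coeff A b x i
  map_add' x y := funext fun i => coeff_add A b x y i
  map_smul' a x := funext fun i => coeff_smul A b a x i

/-- The coordinate map of `R ⊗ B`. -/
noncomputable def toCoord : Ring A b ⊗[A] B →ₗ[Ring A b] (Fin d → Ring A b) :=
  (coeffₗ A b).liftBaseChange (Ring A b)

theorem toCoord_tmul (r : Ring A b) (x : B) (i : Fin d) :
    toCoord A b (r ⊗ₜ x) i = r * coeff A b x i := by
  simp [toCoord, coeffₗ]

theorem toCoord_mul_tmul (z : Ring A b ⊗[A] B) (y : B) (i : Fin d) :
    toCoord A b (z * ((1 : Ring A b) ⊗ₜ y)) i =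
      ∑ j, toCoord A b z j * coeff A b (b j * y) i := by
  induction z with
  | zero => simp
  | tmul r x =>
    rw [Algebra.TensorProduct.tmul_mul_tmul, mul_one, toCoord_tmul, coeff_mul, Finset.mul_sum]
    exact Finset.sum_congr rfl fun j _ => by rw [toCoord_tmul, mul_assoc]
  | add z w hz hw =>
    simp only [add_mul, map_add, Pi.add_apply, hz, hw, Finset.sum_add_distrib]

/-- The ideal of the universal family. -/
noncomputable def famIdeal : Ideal (Ring A b ⊗[A] B) where
  carrier := {z | toCoord A b z = 0}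
  add_mem' {z w} hz hw := by simp_all
  zero_mem' := map_zero _
  smul_mem' w z hz := by
    show toCoord A b (w * z) = 0
    induction w with
    | zero => simp
    | tmul r y =>
      have h1 : (r ⊗ₜ[A] y) * z = r • (z * ((1 : Ring A b) ⊗ₜ[A] y)) := by
        rw [show r ⊗ₜ[A] y = r • ((1 : Ring A b) ⊗ₜ[A] y) by
          rw [TensorProduct.smul_tmul', smul_eq_mul, mul_one], smul_mul_assoc, mul_comm]
      rw [h1, map_smul]
      ext i
      simp only [Pi.smul_apply, toCoord_mul_tmul, Pi.zero_apply]
      rw [show toCoord A b z = 0 from hz]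
      simp
    | add w w' hw hw' => rw [add_mul, map_add, hw, hw', add_zero]

theorem mem_famIdeal {z : Ring A b ⊗[A] B} : z ∈ famIdeal A b ↔ toCoord A b z = 0 := Iff.rfl

/-- The universal family. -/
def Fam : Type u := (Ring A b ⊗[A] B) ⧸ famIdeal A b

noncomputable instance : CommRing (Fam A b) :=
  inferInstanceAs (CommRing ((Ring A b ⊗[A] B) ⧸ famIdeal A b))

noncomputable instance : Algebra (Ring A b) (Fam A b) :=
  inferInstanceAs (Algebra (Ring A b) ((Ring A b ⊗[A] B) ⧸ famIdeal A b))

noncomputable instance : Algebra A (Fam A b) :=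
  inferInstanceAs (Algebra A ((Ring A b ⊗[A] B) ⧸ famIdeal A b))

instance : IsScalarTower A (Ring A b) (Fam A b) :=
  inferInstanceAs (IsScalarTower A (Ring A b) ((Ring A b ⊗[A] B) ⧸ famIdeal A b))

/-- The quotient map onto the universal family. -/
noncomputable def famQuot : Ring A b ⊗[A] B →ₐ[Ring A b] Fam A b :=
  Ideal.Quotient.mkₐ (Ring A b) (famIdeal A b)

theorem famQuot_surjective : Function.Surjective (famQuot A b) :=
  Ideal.Quotient.mk_surjective

theorem famQuot_eq_zero {z : Ring A b ⊗[A] B} : famQuot A b z = 0 ↔ toCoord A b z = 0 :=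
  Ideal.Quotient.eq_zero_iff_mem.trans (mem_famIdeal A b)

/-- The image of an element of `B` in the universal family. -/
noncomputable def famMap : B →ₐ[A] Fam A b :=
  ((famQuot A b).restrictScalars A).comp Algebra.TensorProduct.includeRight

theorem famMap_apply (x : B) : famMap A b x = famQuot A b ((1 : Ring A b) ⊗ₜ[A] x) := rfl

theorem exists_combination (z : Ring A b ⊗[A] B) :
    famQuot A b z = ∑ i, toCoord A b z i • famMap A b (b i) := by
  simp only [famMap_apply, ← map_smul, ← map_sum]
  rw [← sub_eq_zero, ← map_sub, famQuot_eq_zero, map_sub, sub_eq_zero]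
  ext i
  rw [map_sum, Finset.sum_apply]
  simp [map_smul, toCoord_tmul, coeff_basis]

/-- The universal family is free with basis the images of `b`. -/
noncomputable def basis : Module.Basis (Fin d) (Ring A b) (Fam A b) :=
  Module.Basis.mk (v := fun i => famMap A b (b i))
    (Fintype.linearIndependent_iff.mpr fun g hg i => by
      have h1 : famQuot A b (∑ j, g j • ((1 : Ring A b) ⊗ₜ[A] b j)) = 0 := by
        rw [map_sum]
        simpa only [map_smul, ← famMap_apply] using hg
      have h2 := congrFun ((famQuot_eq_zero A b).mp h1) i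
      simpa [map_sum, map_smul, toCoord_tmul, coeff_basis] using h2)
    (fun q _ => by
      obtain ⟨z, rfl⟩ := famQuot_surjective A b q
      rw [exists_combination]
      exact Submodule.sum_mem _ fun i _ =>
        Submodule.smul_mem _ _ (Submodule.subset_span ⟨i, rfl⟩))

theorem basis_apply (i : Fin d) : basis A b i = famMap A b (b i) := by simp [basis]

theorem famMap_eq_sum (x : B) :
    famMap A b x = ∑ i, coeff A b x i • famMap A b (b i) := by
  rw [famMap_apply, exists_combination]
  simp [toCoord_tmul, famMap_apply]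

section lift

variable {A' : Type u} [CommRing A'] [Algebra A A']

/-- Ring maps out of the chart ring. -/
theorem exists_lift (c : B → Fin d → A') (hadd : ∀ x y i, c (x + y) i = c x i + c y i)
    (hsmul : ∀ (a : A) x i, c (a • x) i = a • c x i)
    (hbasis : ∀ j i, c (b j) i = if j = i then 1 else 0)
    (hmul : ∀ x y i, c (x * y) i = ∑ j, c x j * c (b j * y) i) :
    ∃ φ : Ring A b →ₐ[A] A', ∀ x i, φ (coeff A b x i) = c x i := by
  let ψ : MvPolynomial (B × Fin d) A →ₐ[A] A' := MvPolynomial.aeval fun p => c p.1 p.2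
  have h : Ideal.span (rels A b) ≤ RingHom.ker ψ := by
    rw [Ideal.span_le]
    intro p hp
    rcases hp with ((⟨⟨⟨x, y⟩, i⟩, rfl⟩ | ⟨⟨⟨a, x⟩, i⟩, rfl⟩) | ⟨⟨j, i⟩, rfl⟩) |
      ⟨⟨⟨x, y⟩, i⟩, rfl⟩
    · simp [ψ, hadd]
    · simp [ψ, hsmul, ← Algebra.smul_def]
    · by_cases hji : j = i <;> simp [ψ, hbasis, hji]
    · simp [ψ, ← hmul]
  refine ⟨Ideal.Quotient.liftₐ _ ψ fun p hp => h hp, fun x i => ?_⟩
  show ψ (var A x i) = c x i
  simp [ψ]

theorem algHom_ext {φ ψ : Ring A b →ₐ[A] A'}
    (h : ∀ x i, φ (coeff A b x i) = ψ (coeff A b x i)) : φ = ψ := by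
  refine Ideal.Quotient.algHom_ext _ (MvPolynomial.algHom_ext fun p => ?_)
  exact h p.1 p.2

end lift

end Groth.Agent.Lib.HilbD.Chart
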