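import Groth.Agent.Lib.HilbD.Chart.Ring
import Groth.Agent.Lib.HilbD.Chart.FrameAt
import Groth.Agent.Lib.HilbD.Sec

/-!
# The universal family over a chart
-/

universe u

open CategoryTheory CategoryTheory.Limits AlgebraicGeometry
open scoped TensorProduct

namespace Groth.Agent.Lib.HilbD.Chart

set_option linter.style.haveILetI false
set_option backward.isDefEq.respectTransparency false

variable {X S : Scheme.{u}} (f : X ⟶ S) (d : ℕ)

/-- The index of a chart. -/
structure Idx : Type u where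
  V : S.affineOpens
  U : X.affineOpens
  le : U.1 ≤ f ⁻¹ᵁ V.1
  b : Fin d → Γ(X, U.1)

variable {f} {d} (c : Idx f d)

namespace Idx

@[reducible] noncomputable def alg : Algebra Γ(S, c.V.1) Γ(X, c.U.1) :=
  (f.appLE c.V.1 c.U.1 c.le).hom.toAlgebra

/-- The coordinate ring. -/
abbrev R : Type u := @Chart.Ring Γ(S, c.V.1) Γ(X, c.U.1) _ _ c.alg d c.b

/-- The coordinate functions. -/
noncomputable def coeff (x : Γ(X, c.U.1)) (i : Fin d) : c.R :=
  letI := c.alg
  Chart.coeff Γ(S, c.V.1) c.b x i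

/-- The ring of the universal family. -/
abbrev Q : Type u := @Chart.Fam Γ(S, c.V.1) Γ(X, c.U.1) _ _ c.alg d c.b

/-- The functions on the universal family. -/
noncomputable def famMap : Γ(X, c.U.1) →+* c.Q :=
  letI := c.alg
  (Chart.famMap Γ(S, c.V.1) c.b).toRingHom

/-- The basis of the universal family. -/
noncomputable def basis : Module.Basis (Fin d) c.R c.Q :=
  letI := c.alg
  Chart.basis Γ(S, c.V.1) c.b

theorem basis_apply (i : Fin d) : c.basis i = c.famMap (c.b i) :=
  letI := c.alg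
  Chart.basis_apply Γ(S, c.V.1) c.b i

theorem famMap_eq_sum (x : Γ(X, c.U.1)) :
    c.famMap x = ∑ i, c.coeff x i • c.famMap (c.b i) :=
  letI := c.alg
  Chart.famMap_eq_sum Γ(S, c.V.1) c.b x

theorem famMap_appLE (a : Γ(S, c.V.1)) :
    c.famMap (f.appLE c.V.1 c.U.1 c.le a) = algebraMap c.R c.Q (algebraMap Γ(S, c.V.1) c.R a) := by
  letI := c.alg
  show Chart.famMap Γ(S, c.V.1) c.b (algebraMap Γ(S, c.V.1) Γ(X, c.U.1) a) = _
  rw [AlgHom.commutes, IsScalarTower.algebraMap_apply Γ(S, c.V.1) (Chart.Ring Γ(S, c.V.1) c.b)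
    (Chart.Fam Γ(S, c.V.1) c.b)]

instance : Module.Free c.R c.Q := Module.Free.of_basis c.basis

instance : Module.Finite c.R c.Q := Module.Finite.of_basis c.basis

/-- The chart. -/
noncomputable def H : Over S :=
  Over.mk (Spec.map (CommRingCat.ofHom (algebraMap Γ(S, c.V.1) c.R)) ≫ c.V.2.fromSpec)

/-- The total space of the universal family. -/
noncomputable def Zc : Scheme.{u} := Spec (CommRingCat.of c.Q)

/-- The projection of the universal family. -/
noncomputable def pr : c.Zc ⟶ c.H.left := Spec.map (CommRingCat.ofHom (algebraMap c.R c.Q))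

/-- The map of the universal family to `X`. -/
noncomputable def toX : c.Zc ⟶ X := Spec.map (CommRingCat.ofHom c.famMap) ≫ c.U.2.fromSpec

theorem toX_comp : c.toX ≫ f = c.pr ≫ c.H.hom := by
  show (Spec.map (CommRingCat.ofHom c.famMap) ≫ c.U.2.fromSpec) ≫ f =
    Spec.map (CommRingCat.ofHom (algebraMap c.R c.Q)) ≫
      Spec.map (CommRingCat.ofHom (algebraMap Γ(S, c.V.1) c.R)) ≫ c.V.2.fromSpec
  rw [Category.assoc, ← IsAffineOpen.SpecMap_appLE_fromSpec f c.V.2 c.U.2 c.le,
    ← Spec.map_comp_assoc, ← Spec.map_comp_assoc]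
  congr 2
  ext a
  exact c.famMap_appLE a

/-- The embedding of the universal family. -/
noncomputable def emb : c.Zc ⟶ PicF.XT f c.H := pullback.lift c.toX c.pr c.toX_comp

theorem emb_fst : c.emb ≫ pullback.fst f c.H.hom = c.toX := pullback.lift_fst _ _ _

theorem emb_proj : c.emb ≫ PicF.XTproj f c.H = c.pr := pullback.lift_snd _ _ _

theorem closure_eq_top (φ : Γ(X, c.U.1) →+* c.Q) (hφ : φ = c.famMap) (s : Subring c.Q)
    (h1 : ∀ r, algebraMap c.R c.Q r ∈ s) (h2 : ∀ x, φ x ∈ s) : s = ⊤ := by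
  subst hφ
  refine eq_top_iff.mpr fun q _ => ?_
  rw [← c.basis.sum_repr q]
  refine Subring.sum_mem _ fun i _ => ?_
  rw [Algebra.smul_def, basis_apply]
  exact mul_mem (h1 _) (h2 _)

instance : Mono c.emb := by
  constructor
  intro W a a' h
  have h1 := congrArg (· ≫ pullback.fst f c.H.hom) h
  have h2 := congrArg (· ≫ PicF.XTproj f c.H) h
  simp only [Category.assoc, emb_fst, emb_proj] at h1 h2
  have h1' : a ≫ Spec.map (CommRingCat.ofHom c.famMap) =
      a' ≫ Spec.map (CommRingCat.ofHom c.famMap) := by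
    haveI := c.U.2.isOpenImmersion_fromSpec
    rw [← cancel_mono c.U.2.fromSpec, Category.assoc, Category.assoc]
    exact h1
  let α : c.Q →+* Γ(W, ⊤) := ((Scheme.ΓSpecIso (CommRingCat.of c.Q)).inv ≫ a.appTop).hom
  let α' : c.Q →+* Γ(W, ⊤) := ((Scheme.ΓSpecIso (CommRingCat.of c.Q)).inv ≫ a'.appTop).hom
  have hsub : ∀ {P : CommRingCat.{u}} (φ : P ⟶ CommRingCat.of c.Q),
      a ≫ Spec.map φ = a' ≫ Spec.map φ → ∀ y, α (φ y) = α' (φ y) := fun {P} φ he y => by
    have hn := congr($(Scheme.ΓSpecIso_inv_naturality φ) y)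
    have h3 := congr($(congrArg Scheme.Hom.appTop he) ((Scheme.ΓSpecIso P).inv y))
    simp only [Scheme.Hom.comp_appTop, CommRingCat.comp_apply] at h3 hn
    show a.appTop ((Scheme.ΓSpecIso (CommRingCat.of c.Q)).inv (φ y)) =
      a'.appTop ((Scheme.ΓSpecIso (CommRingCat.of c.Q)).inv (φ y))
    rw [hn]
    exact h3
  have key : RingHom.eqLocus α α' = ⊤ := c.closure_eq_top _ rfl _
    (hsub (CommRingCat.ofHom (algebraMap c.R c.Q)) h2) (hsub (CommRingCat.ofHom c.famMap) h1')
  haveI : IsAffine c.Zc := by unfold Idx.Zc; infer_instance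
  refine ext_of_isAffine (CommRingCat.hom_ext (RingHom.ext fun s => ?_))
  obtain ⟨q, rfl⟩ := (ConcreteCategory.bijective_of_isIso
    (Scheme.ΓSpecIso (CommRingCat.of c.Q)).inv).2 s
  exact (key.ge trivial : q ∈ RingHom.eqLocus α α')

theorem isFinite_pr : IsFinite c.pr :=
  (IsFinite.SpecMap_iff _).mpr (RingHom.finite_algebraMap.mpr inferInstance)

theorem finLocFree_pr : Mor2.IsFinLocFreeOfDeg d c.pr := by
  haveI : Module.FinitePresentation c.R c.Q := Module.finitePresentation_of_projective _ _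
  haveI : Algebra.FinitePresentation c.R c.Q :=
    Algebra.FinitePresentation.of_finitePresentation c.R c.Q
  haveI : IsFinite c.pr := c.isFinite_pr
  haveI : Flat c.pr :=
    (HasRingHomProperty.Spec_iff (P := @Flat)).mpr (RingHom.flat_algebraMap_iff.mpr inferInstance)
  haveI : LocallyOfFinitePresentation c.pr :=
    (HasRingHomProperty.Spec_iff (P := @LocallyOfFinitePresentation)).mpr
      (RingHom.finitePresentation_algebraMap.mpr inferInstance)
  refine ⟨⟨inferInstance, inferInstance, inferInstance⟩, fun y => ?_⟩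
  rw [Idx.pr, Scheme.Hom.finrank_SpecMap_algebraMap]
  haveI : Nontrivial c.R := y.nontrivial
  rw [Module.rankAtStalk_eq_finrank_of_free]
  simp [Module.finrank_eq_card_basis c.basis]

instance [IsSeparated f] : IsClosedImmersion c.emb := by
  haveI : IsFinite (c.emb ≫ PicF.XTproj f c.H) := by rw [emb_proj]; exact c.isFinite_pr
  haveI : IsFinite c.emb := IsFinite.of_comp c.emb (PicF.XTproj f c.H)
  exact (IsClosedImmersion.iff_isFinite_and_mono _).mpr ⟨inferInstance, inferInstance⟩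

/-- The universal family of the chart. -/
noncomputable def fam [IsSeparated f] : _root_.HilbD.Obj f d c.H :=
  ⟨c.emb.ker, by
    have h : c.emb.toImage ≫ c.emb.ker.subschemeι ≫ PicF.XTproj f c.H = c.pr := by
      rw [← Category.assoc]
      exact (congrArg (· ≫ PicF.XTproj f c.H) c.emb.toImage_imageι).trans c.emb_proj
    refine (MorphismProperty.cancel_left_of_respectsIso (AlgSp.finLocFreeOfDeg d)
      c.emb.toImage _).mp ?_
    rw [h]
    exact c.finLocFree_pr⟩

theorem frameAt_pr : FrameAt c.pr c.toX c.U.1 c.b ⊤ := by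
  have e : c.pr ⁻¹ᵁ ⊤ ≤ c.toX ⁻¹ᵁ c.U.1 := fun z _ => by
    show c.U.2.fromSpec (Spec.map (CommRingCat.ofHom c.famMap) z) ∈ c.U.1
    rw [← SetLike.mem_coe, ← c.U.2.range_fromSpec]; exact ⟨_, rfl⟩
  refine ⟨e, ?_⟩
  letI := (c.pr.app ⊤).hom.toAlgebra
  let eR : c.R ≃+* Γ(c.H.left, ⊤) :=
    (Scheme.ΓSpecIso (CommRingCat.of c.R)).symm.commRingCatIsoToRingEquiv
  let eQ : c.Q ≃+* Γ(c.Zc, c.pr ⁻¹ᵁ ⊤) :=
    (Scheme.ΓSpecIso (CommRingCat.of c.Q)).symm.commRingCatIsoToRingEquiv
  have hcomm : ∀ r, eQ (algebraMap c.R c.Q r) = c.pr.app ⊤ (eR r) := fun r =>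
    congr($(Scheme.ΓSpecIso_inv_naturality (CommRingCat.ofHom (algebraMap c.R c.Q))) r)
  have hu : ∀ x, c.toX.appLE c.U.1 (c.pr ⁻¹ᵁ ⊤) e x = eQ (c.famMap x) := fun x => by
    have h := Content.appLE_SpecMap_fromSpec (T := X) c.U.2
      (B := CommRingCat.of c.Q) (CommRingCat.ofHom c.famMap) e
    exact congr($h x)
  have hlin : ∀ r : Fin d → Γ(c.H.left, ⊤),
      Fintype.linearCombination Γ(c.H.left, ⊤)
        (fun i => c.toX.appLE c.U.1 (c.pr ⁻¹ᵁ ⊤) e (c.b i)) r =
        eQ (c.basis.equivFun.symm (fun i => eR.symm (r i))) := fun r => by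
    rw [Fintype.linearCombination_apply, Module.Basis.equivFun_symm_apply, map_sum]
    refine Finset.sum_congr rfl fun i _ => ?_
    rw [hu, Algebra.smul_def, Algebra.smul_def, map_mul, hcomm, RingEquiv.apply_symm_apply,
      basis_apply]
    rfl
  refine ⟨fun r r' h => ?_, fun q => ⟨fun i => eR (c.basis.equivFun (eQ.symm q) i), ?_⟩⟩
  · rw [hlin, hlin] at h
    funext i
    exact eR.symm.injective (congrFun (c.basis.equivFun.symm.injective (eQ.injective h)) i)
  · rw [hlin]
    simp only [RingEquiv.symm_apply_apply, LinearEquiv.symm_apply_apply, RingEquiv.apply_symm_apply]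

end Idx

end Groth.Agent.Lib.HilbD.Chart
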